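import Mathlib
import Cfsg.Prelude.Def_Local
import Cfsg.Prelude.Def_Amalgam
import Cfsg.Prelude.Def_Solvable
import Cfsg.Prelude.Def_Transfer
import Cfsg.Agent.Lib.LocalEvenA.Core
import Cfsg.Agent.Lib.FGS.SectionalRankFour

/-!
TI elementary abelian subgroups `V` for which some other conjugate lies in `O₂(N(V))`.
-/

set_option autoImplicit false
set_option linter.unusedSectionVars false

namespace Cfsg.Agent.TILarge23

open Subgroup
open scoped commutatorElement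

variable {G : Type*} [Group G]

/-- The conjugate `x K x⁻¹`. -/
def cj (x : G) (K : Subgroup G) : Subgroup G := K.map (MulAut.conj x).toMonoidHom

theorem mem_cj {x y : G} {K : Subgroup G} : y ∈ cj x K ↔ x⁻¹ * y * x ∈ K := by
  rw [cj, Subgroup.mem_map_equiv]
  simp [MulAut.conj_symm_apply]

theorem conj_mem_cj {x k : G} {K : Subgroup G} (hk : k ∈ K) : x * k * x⁻¹ ∈ cj x K :=
  mem_cj.2 (by simpa [mul_assoc] using hk)

theorem cj_one (K : Subgroup G) : cj 1 K = K := by ext; simp [mem_cj]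

theorem cj_cj (x y : G) (K : Subgroup G) : cj x (cj y K) = cj (x * y) K := by
  ext z; simp [mem_cj, mul_assoc]

theorem cj_inv_cj (x : G) (K : Subgroup G) : cj x⁻¹ (cj x K) = K := by
  rw [cj_cj, inv_mul_cancel, cj_one]

theorem cj_mono (x : G) {K L : Subgroup G} (h : K ≤ L) : cj x K ≤ cj x L := Subgroup.map_mono h

theorem card_cj (x : G) (K : Subgroup G) : Nat.card (cj x K) = Nat.card K :=
  Nat.card_congr (Subgroup.equivMapOfInjective K _ (MulAut.conj x).injective).toEquiv.symm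

theorem cj_injective (x : G) {K L : Subgroup G} (h : cj x K = cj x L) : K = L := by
  rw [← cj_inv_cj x K, h, cj_inv_cj]

theorem cj_centralizer (x : G) (K : Subgroup G) :
    cj x (centralizer (K : Set G)) = centralizer (cj x K : Set G) := by
  ext y
  simp only [mem_cj, mem_centralizer_iff, SetLike.mem_coe]
  constructor
  · intro h z hz
    have := h _ hz
    calc z * y = x * (x⁻¹ * z * x * (x⁻¹ * y * x)) * x⁻¹ := by group
      _ = x * (x⁻¹ * y * x * (x⁻¹ * z * x)) * x⁻¹ := by rw [this]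
      _ = y * z := by group
  · intro h z hz
    have := h (x * z * x⁻¹) (by simpa [mul_assoc] using hz)
    calc z * (x⁻¹ * y * x) = x⁻¹ * (x * z * x⁻¹ * y) * x := by group
      _ = x⁻¹ * (y * (x * z * x⁻¹)) * x := by rw [this]
      _ = x⁻¹ * y * x * z := by group

theorem mem_normalizer_of_cj [Finite G] {x : G} {K : Subgroup G} (h : cj x K = K) :
    x ∈ normalizer (K : Set G) := by
  rw [mem_normalizer_iff]
  intro n
  conv_rhs => rw [← h]
  rw [mem_cj]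
  simp [mul_assoc]

theorem cj_of_mem_normalizer {x : G} {K : Subgroup G} (h : x ∈ normalizer (K : Set G)) :
    cj x K = K := by
  ext y
  rw [mem_cj, mem_normalizer_iff.1 h]
  simp [mul_assoc]

/-- `O₂(N(V))`. -/
def Qn (V : Subgroup G) : Subgroup G := Cfsg.pCoreOf 2 (normalizer (V : Set G))

/-- `C_{O₂(N(V))}(V)`. -/
def Pn (V : Subgroup G) : Subgroup G := Qn V ⊓ centralizer (V : Set G)

theorem cj_normalizer (x : G) (K : Subgroup G) :
    cj x (normalizer (K : Set G)) = normalizer (cj x K : Set G) := by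
  ext y
  rw [mem_cj, mem_normalizer_iff, mem_normalizer_iff]
  constructor
  · intro h n
    rw [mem_cj, mem_cj, h (x⁻¹ * n * x)]
    simp [mul_assoc]
  · intro h n
    have := h (x * n * x⁻¹)
    rw [mem_cj, mem_cj] at this
    simpa [mul_assoc] using this

theorem cj_Qn (x : G) (V : Subgroup G) : cj x (Qn V) = Qn (cj x V) := by
  unfold Qn Cfsg.pCoreOf
  rw [← cj_normalizer]
  set N := normalizer (V : Set G)
  have e := Cfsg.Agent.LocalEvenA.pCore_map_iso (p := 2)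
    (Subgroup.equivMapOfInjective N (MulAut.conj x).toMonoidHom (MulAut.conj x).injective)
  unfold cj
  rw [← e, Subgroup.map_map, Subgroup.map_map]
  rfl

theorem cj_Pn (x : G) (V : Subgroup G) : cj x (Pn V) = Pn (cj x V) := by
  rw [Pn, Pn, ← cj_Qn, ← cj_centralizer]
  exact Subgroup.map_inf _ _ _ (MulAut.conj x).injective

/-- `X` is a conjugate of `V`. -/
def Conj (V X : Subgroup G) : Prop := ∃ x : G, X = cj x V

theorem Conj.refl (V : Subgroup G) : Conj V V := ⟨1, (cj_one V).symm⟩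

theorem Conj.symm {V X : Subgroup G} (h : Conj V X) : Conj X V := by
  obtain ⟨x, rfl⟩ := h
  exact ⟨x⁻¹, (cj_inv_cj x V).symm⟩

theorem Conj.trans {V X Y : Subgroup G} (h : Conj V X) (h' : Conj X Y) : Conj V Y := by
  obtain ⟨x, rfl⟩ := h
  obtain ⟨y, rfl⟩ := h'
  exact ⟨y * x, cj_cj y x V⟩

theorem Conj.cj_right {V X : Subgroup G} (h : Conj V X) (y : G) : Conj V (cj y X) :=
  h.trans ⟨y, rfl⟩

theorem Conj.card {V X : Subgroup G} (h : Conj V X) : Nat.card X = Nat.card V := by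
  obtain ⟨x, rfl⟩ := h
  exact card_cj x V

/-- The hypotheses on `V`. -/
structure TI (V : Subgroup G) : Prop where
  el : Cfsg.IsElementaryAbelian 2 V
  cent : ∀ m ∈ normalizer (V : Set G), (∀ q ∈ Qn V, m * q = q * m) → m ∈ Qn V
  maxab : ∀ A : Subgroup G, V ≤ A → A ≤ normalizer (V : Set G) → IsMulCommutative ↥A →
    (∀ m ∈ normalizer (V : Set G), ∀ a ∈ A, m * a * m⁻¹ ∈ A) → A = V
  ti : ∀ x : G, cj x V = V ∨ cj x V ⊓ V = ⊥

variable {V X Y : Subgroup G}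

theorem TI.conj (h : TI V) (hX : Conj V X) : TI X := by
  obtain ⟨x, rfl⟩ := hX
  constructor
  · refine ⟨⟨⟨fun a b => Subtype.ext ?_⟩⟩, fun a ha => ?_⟩
    · have := congrArg Subtype.val
        (h.el.1.is_comm.comm ⟨_, mem_cj.1 a.2⟩ ⟨_, mem_cj.1 b.2⟩)
      calc (a : G) * b = x * (x⁻¹ * a * x * (x⁻¹ * b * x)) * x⁻¹ := by group
        _ = x * (x⁻¹ * b * x * (x⁻¹ * a * x)) * x⁻¹ := by
            rw [show x⁻¹ * (a : G) * x * (x⁻¹ * b * x) = x⁻¹ * b * x * (x⁻¹ * a * x) from this]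
        _ = b * a := by group
    · have := h.el.2 _ (mem_cj.1 ha)
      calc a ^ 2 = x * (x⁻¹ * a * x) ^ 2 * x⁻¹ := by rw [pow_two, pow_two]; group
        _ = 1 := by rw [this]; group
  · intro m hm hq
    rw [← cj_normalizer, mem_cj] at hm
    rw [← cj_Qn, mem_cj]
    refine h.cent _ hm fun q hq' => ?_
    have := hq (x * q * x⁻¹) (by rw [← cj_Qn]; exact conj_mem_cj hq')
    calc x⁻¹ * m * x * q = x⁻¹ * (m * (x * q * x⁻¹)) * x := by group
      _ = x⁻¹ * (x * q * x⁻¹ * m) * x := by rw [this]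
      _ = q * (x⁻¹ * m * x) := by group
  · intro A hVA hAN hA hinv
    have h1 : cj x⁻¹ A = V := by
      refine h.maxab _ ?_ ?_ ?_ ?_
      · rw [← cj_inv_cj x V]; exact cj_mono _ hVA
      · rw [← cj_inv_cj x (normalizer (V : Set G)), cj_normalizer x V]; exact cj_mono _ hAN
      · refine ⟨⟨fun a b => Subtype.ext ?_⟩⟩
        have := congrArg Subtype.val (hA.is_comm.comm ⟨_, mem_cj.1 a.2⟩ ⟨_, mem_cj.1 b.2⟩)
        simp only [inv_inv] at this
        calc (a : G) * b = x⁻¹ * (x * a * x⁻¹ * (x * b * x⁻¹)) * x := by group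
          _ = x⁻¹ * (x * b * x⁻¹ * (x * a * x⁻¹)) * x := by
              rw [show x * (a : G) * x⁻¹ * (x * b * x⁻¹) = x * b * x⁻¹ * (x * a * x⁻¹) from this]
          _ = b * a := by group
      · intro m hm a ha
        rw [mem_cj, inv_inv] at ha ⊢
        have := hinv (x * m * x⁻¹) (by rw [← cj_normalizer]; exact conj_mem_cj hm) _ ha
        simpa [mul_assoc] using this
    rw [← h1, cj_cj, mul_inv_cancel, cj_one]
  · intro y
    rcases h.ti (x⁻¹ * y * x) with e | e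
    · left
      have := congrArg (cj x) e
      simpa [cj_cj, mul_assoc] using this
    · right
      refine eq_bot_iff.2 fun z hz => ?_
      have : x⁻¹ * z * x ∈ cj (x⁻¹ * y * x) V ⊓ V :=
        ⟨mem_cj.2 (by have := mem_cj.1 (mem_cj.1 hz.1); simpa [mul_assoc] using this), mem_cj.1 hz.2⟩
      rw [e, mem_bot] at this
      rw [mem_bot]
      calc z = x * (x⁻¹ * z * x) * x⁻¹ := by group
        _ = 1 := by rw [this]; group

variable (h : TI V)
include h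

theorem TI.comm {a b : G} (ha : a ∈ V) (hb : b ∈ V) : a * b = b * a :=
  congrArg Subtype.val (h.el.1.is_comm.comm ⟨a, ha⟩ ⟨b, hb⟩)

theorem TI.sq {a : G} (ha : a ∈ V) : a * a = 1 := by rw [← pow_two]; exact h.el.2 a ha

theorem TI.inv_eq {a : G} (ha : a ∈ V) : a⁻¹ = a := inv_eq_of_mul_eq_one_right (h.sq ha)

theorem TI.eq_of_inf (hX : Conj V X) (hY : Conj V Y) {w : G} (hw : w ≠ 1) (hwX : w ∈ X)
    (hwY : w ∈ Y) : X = Y := by
  obtain ⟨z, rfl⟩ := hX.symm.trans hY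
  rcases (h.conj hX).ti z with e | e
  · exact e.symm
  · have : w ∈ cj z X ⊓ X := ⟨hwY, hwX⟩
    rw [e, mem_bot] at this
    exact absurd this hw

theorem TI.eq_one_of_mem (hX : Conj V X) (hY : Conj V Y) (hne : X ≠ Y) {w : G}
    (hwX : w ∈ X) (hwY : w ∈ Y) : w = 1 :=
  by_contra fun hw => hne (h.eq_of_inf hX hY hw hwX hwY)

variable [Finite G]

theorem TI.mem_normalizer_of_commute (hX : Conj V X) {a y : G} (ha : a ∈ X) (ha1 : a ≠ 1)
    (hy : y * a = a * y) : y ∈ normalizer (X : Set G) := by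
  refine mem_normalizer_of_cj (h.eq_of_inf (hX.cj_right y) hX ha1 (mem_cj.2 ?_) ha)
  rw [mul_assoc, ← hy, ← mul_assoc, inv_mul_cancel, one_mul]
  exact ha

theorem TI.le_normalizer : V ≤ normalizer (V : Set G) := Subgroup.le_normalizer

theorem TI.isPGroup : IsPGroup 2 V := fun a => ⟨1, Subtype.ext (by simpa using h.el.2 a a.2)⟩

omit h in
theorem Qn_le_normalizer : Qn V ≤ normalizer (V : Set G) := Cfsg.Agent.LocalEvenA.pCoreOf_le' _ _

omit h in
theorem Qn_conj {m q : G} (hm : m ∈ normalizer (V : Set G)) (hq : q ∈ Qn V) : m * q * m⁻¹ ∈ Qn V := by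
  have := cj_Qn m V
  rw [cj_of_mem_normalizer hm] at this
  rw [← this]
  exact conj_mem_cj hq

omit h in
theorem Pn_conj {m q : G} (hm : m ∈ normalizer (V : Set G)) (hq : q ∈ Pn V) : m * q * m⁻¹ ∈ Pn V := by
  have := cj_Pn m V
  rw [cj_of_mem_normalizer hm] at this
  rw [← this]
  exact conj_mem_cj hq

omit h in
theorem isPGroup_Qn : IsPGroup 2 (Qn V) := Cfsg.Agent.LocalEvenA.pCoreOf_isPGroup' 2 _

omit h in
theorem Pn_comm {p v : G} (hp : p ∈ Pn V) (hv : v ∈ V) : v * p = p * v :=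
  mem_centralizer_iff.1 hp.2 v hv

omit h in
theorem Pn_le_normalizer : Pn V ≤ normalizer (V : Set G) := inf_le_left.trans Qn_le_normalizer

theorem TI.le_Qn : V ≤ Qn V := Cfsg.Agent.LocalEvenA.le_pCoreOf h.le_normalizer le_rfl h.isPGroup

theorem TI.le_Pn : V ≤ Pn V :=
  le_inf h.le_Qn fun v hv => mem_centralizer_iff.2 fun w hw => h.comm hw hv

/-- A conjugate of `V` normalising `V` commutes with it. -/
theorem TI.commute_of_normalizes (hX : Conj V X) (hne : X ≠ V) (hN : X ≤ normalizer (V : Set G)) :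
    ∀ x ∈ X, ∀ v ∈ V, x * v = v * x := by
  by_contra hh
  push Not at hh
  obtain ⟨x₁, hx₁, v₁, hv₁, hne₁⟩ := hh
  have hX' := h.conj hX
  have hnorm : ∀ y ∈ V, y ∈ normalizer (X : Set G) → ∀ x ∈ X, x * y = y * x := by
    intro y hy hyN x hx
    have h1 : x * y * x⁻¹ * y⁻¹ ∈ V :=
      mul_mem ((mem_normalizer_iff.1 (hN hx) y).1 hy) (inv_mem hy)
    have h2 : x * y * x⁻¹ * y⁻¹ ∈ X := by
      rw [mul_assoc x y, mul_assoc x]
      exact mul_mem hx ((mem_normalizer_iff.1 hyN _).1 (inv_mem hx))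
    have h3 := h.eq_one_of_mem hX (Conj.refl V) hne h2 h1
    calc x * y = x * y * x⁻¹ * y⁻¹ * (y * x) := by group
      _ = y * x := by rw [h3, one_mul]
  have hC : ∀ x ∈ X, x ≠ 1 → ∀ v ∈ V, x * v = v * x → v ∈ V ⊓ centralizer (X : Set G) := by
    intro x hx hx1 v hv he
    exact ⟨hv, mem_centralizer_iff.2 fun z hz =>
      hnorm v hv (h.mem_normalizer_of_commute hX hx hx1 he.symm) z hz⟩
  set V₀ := V ⊓ centralizer (X : Set G)
  have hv₁' : v₁ ∉ V₀ := fun e => hne₁ (mem_centralizer_iff.1 e.2 x₁ hx₁)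
  have hf : ∀ x ∈ X, x * v₁ * x⁻¹ * v₁⁻¹ ∈ V₀ := by
    intro x hx
    rcases eq_or_ne x 1 with rfl | hx1
    · simp [one_mem]
    have hfV : x * v₁ * x⁻¹ * v₁⁻¹ ∈ V :=
      mul_mem ((mem_normalizer_iff.1 (hN hx) v₁).1 hv₁) (inv_mem hv₁)
    refine hC x hx hx1 _ hfV ?_
    have hi : x⁻¹ = x := hX'.inv_eq hx
    have hsq : x * x = 1 := hX'.sq hx
    have e : x * (x * v₁ * x⁻¹ * v₁⁻¹) * x⁻¹ = (x * v₁ * x⁻¹ * v₁⁻¹)⁻¹ := by
      calc x * (x * v₁ * x⁻¹ * v₁⁻¹) * x⁻¹ = x * x * v₁ * (x⁻¹ * v₁⁻¹ * x⁻¹) := by group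
        _ = v₁ * (x * v₁⁻¹ * x⁻¹) := by rw [hsq, one_mul, hi]
        _ = (x * v₁ * x⁻¹ * v₁⁻¹)⁻¹ := by group
    rw [h.inv_eq hfV] at e
    calc x * (x * v₁ * x⁻¹ * v₁⁻¹) = x * (x * v₁ * x⁻¹ * v₁⁻¹) * x⁻¹ * x := by group
      _ = _ := by rw [e]
  have hinj : Function.Injective (fun x : X => (⟨_, hf x x.2⟩ : V₀)) := by
    rintro ⟨x, hx⟩ ⟨x', hx'⟩ he
    have he' : x * v₁ * x⁻¹ * v₁⁻¹ = x' * v₁ * x'⁻¹ * v₁⁻¹ := congrArg Subtype.val he
    refine Subtype.ext (by_contra fun hxx => hv₁' (hC (x'⁻¹ * x) (mul_mem (inv_mem hx') hx) ?_ v₁ hv₁ ?_))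
    · exact fun e => hxx (inv_mul_eq_one.1 e).symm
    · calc x'⁻¹ * x * v₁ = x'⁻¹ * (x * v₁ * x⁻¹ * v₁⁻¹) * (v₁ * x) := by group
        _ = x'⁻¹ * (x' * v₁ * x'⁻¹ * v₁⁻¹) * (v₁ * x) := by rw [he']
        _ = v₁ * (x'⁻¹ * x) := by group
  have h1 := Nat.card_le_card_of_injective _ hinj
  rw [hX.card] at h1
  exact hv₁' ((Subgroup.eq_of_le_of_card_ge (inf_le_left : V₀ ≤ V) h1).ge hv₁)

omit h [Finite G] in
/-- A different conjugate of `V` inside `O₂(N(V))`. -/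
def Pair (V X : Subgroup G) : Prop := Conj V X ∧ X ≠ V ∧ X ≤ Qn V

theorem TI.pair_le_Pn (hP : Pair V X) : X ≤ Pn V :=
  le_inf hP.2.2 fun x hx => mem_centralizer_iff.2 fun v hv =>
    (h.commute_of_normalizes hP.1 hP.2.1 (hP.2.2.trans Qn_le_normalizer) x hx v hv).symm

omit h in
theorem Pn_isPGroup : IsPGroup 2 (Pn V) := isPGroup_Qn.to_le inf_le_left

theorem TI.center_Pn {z : G} (hz : z ∈ Pn V) (hc : ∀ p ∈ Pn V, z * p = p * z) : z ∈ V := by
  have e : Pn V ⊓ centralizer (Pn V : Set G) = V := by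
    refine h.maxab _ (le_inf h.le_Pn fun v hv => mem_centralizer_iff.2 fun p hp =>
      (Pn_comm hp hv).symm) (inf_le_left.trans Pn_le_normalizer)
      ⟨⟨fun a b => Subtype.ext ((mem_centralizer_iff.1 a.2.2 b b.2.1).symm)⟩⟩ ?_
    intro m hm a ha
    refine ⟨Pn_conj hm ha.1, mem_centralizer_iff.2 fun p hp => ?_⟩
    have h1 : m⁻¹ * p * m ∈ Pn V := by
      simpa using Pn_conj (inv_mem hm) hp
    have := mem_centralizer_iff.1 ha.2 _ h1
    calc p * (m * a * m⁻¹) = m * (m⁻¹ * p * m * a) * m⁻¹ := by group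
      _ = m * (a * (m⁻¹ * p * m)) * m⁻¹ := by rw [this]
      _ = m * a * m⁻¹ * p := by group
  rw [← e]
  exact ⟨hz, mem_centralizer_iff.2 fun p hp => (hc p hp).symm⟩

/-- `Pn V / V` is elementary abelian. -/
theorem TI.class_two :
    (∀ x ∈ Pn V, ∀ y ∈ Pn V, ⁅x, y⁆ ∈ V) ∧ ∀ x ∈ Pn V, x * x ∈ V := by
  classical
  have hcomm : ∀ p ∈ Pn V, ∀ v ∈ V, p * v * p⁻¹ = v := fun p hp v hv => by
    rw [← Pn_comm hp hv, mul_inv_cancel_right]
  let U : Subgroup G :=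
    { carrier := {x | x ∈ Pn V ∧ ∀ p ∈ Pn V, ⁅x, p⁆ ∈ V}
      one_mem' := ⟨one_mem _, fun p _ => by rw [commutatorElement_one_left]; exact one_mem V⟩
      mul_mem' := by
        rintro a b ⟨ha, ha'⟩ ⟨hb, hb'⟩
        refine ⟨mul_mem ha hb, fun p hp => ?_⟩
        rw [show ⁅a * b, p⁆ = a * ⁅b, p⁆ * a⁻¹ * ⁅a, p⁆ by simp [commutatorElement_def, mul_assoc],
          hcomm a ha _ (hb' p hp)]
        exact mul_mem (hb' p hp) (ha' p hp)
      inv_mem' := by
        rintro a ⟨ha, ha'⟩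
        refine ⟨inv_mem ha, fun p hp => ?_⟩
        rw [show ⁅a⁻¹, p⁆ = a⁻¹ * ⁅a, p⁆⁻¹ * a⁻¹⁻¹ by simp [commutatorElement_def, mul_assoc],
          hcomm _ (inv_mem ha) _ (inv_mem (ha' p hp))]
        exact inv_mem (ha' p hp) }
  have hVU : V ≤ U := fun v hv => ⟨h.le_Pn hv, fun p hp => by
    rw [commutatorElement_def, Pn_comm hp hv]; simp [one_mem]⟩
  have hUinv : ∀ m ∈ normalizer (V : Set G), ∀ x ∈ U, m * x * m⁻¹ ∈ U := by
    rintro m hm x ⟨hx, hx'⟩
    refine ⟨Pn_conj hm hx, fun p hp => ?_⟩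
    have hp' : m⁻¹ * p * m ∈ Pn V := by simpa using Pn_conj (inv_mem hm) hp
    have := (mem_normalizer_iff.1 hm _).1 (hx' _ hp')
    rwa [show m * ⁅x, m⁻¹ * p * m⁆ * m⁻¹ = ⁅m * x * m⁻¹, p⁆ by
      simp [commutatorElement_def, mul_assoc]] at this
  have hUC : ∀ x ∈ Pn V, (∀ u ∈ U, x * u = u * x) → x ∈ U → x ∈ V := by
    intro x hx hxc hxU
    have e : U ⊓ centralizer (U : Set G) = V := by
      refine h.maxab _ (le_inf hVU fun v hv => mem_centralizer_iff.2 fun u hu =>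
        (Pn_comm hu.1 hv).symm) (fun u hu => Pn_le_normalizer hu.1.1)
        ⟨⟨fun a b => Subtype.ext ((mem_centralizer_iff.1 a.2.2 b b.2.1).symm)⟩⟩ ?_
      intro m hm a ha
      refine ⟨hUinv m hm a ha.1, mem_centralizer_iff.2 fun u hu => ?_⟩
      have h1 : m⁻¹ * u * m ∈ U := by simpa using hUinv m⁻¹ (inv_mem hm) u hu
      have := mem_centralizer_iff.1 ha.2 _ h1
      calc u * (m * a * m⁻¹) = m * (m⁻¹ * u * m * a) * m⁻¹ := by group
        _ = m * (a * (m⁻¹ * u * m)) * m⁻¹ := by rw [this]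
        _ = m * a * m⁻¹ * u := by group
    rw [← e]
    exact ⟨hxU, mem_centralizer_iff.2 fun u hu => (hxc u hu).symm⟩
  have hcen : ∀ x ∈ Pn V, (∀ u ∈ U, x * u = u * x) → x ∈ V := by
    intro x hx hxc
    by_contra hxV
    haveI : Fact (Nat.Prime 2) := ⟨Nat.prime_two⟩
    have hN : (V.subgroupOf (Pn V)).Normal := ⟨fun v hv p => by
      rw [mem_subgroupOf] at hv ⊢
      show (p : G) * v * (p : G)⁻¹ ∈ V
      rw [hcomm p p.2 v hv]; exact hv⟩
    let C : Subgroup (Pn V) := (centralizer (U : Set G)).subgroupOf (Pn V)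
    haveI : C.Normal := ⟨fun c hc p => by
      rw [mem_subgroupOf, mem_centralizer_iff] at hc ⊢
      intro u hu
      have h1 : (p : G)⁻¹ * u * p ∈ U := by
        simpa using hUinv _ (inv_mem (Pn_le_normalizer p.2)) u hu
      have := hc _ h1
      show u * ((p : G) * c * (p : G)⁻¹) = (p : G) * c * (p : G)⁻¹ * u
      calc u * ((p : G) * c * (p : G)⁻¹) = p * ((p : G)⁻¹ * u * p * c) * (p : G)⁻¹ := by group
        _ = p * (c * ((p : G)⁻¹ * u * p)) * (p : G)⁻¹ := by rw [this]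
        _ = (p : G) * c * (p : G)⁻¹ * u := by group⟩
    let π := QuotientGroup.mk' (V.subgroupOf (Pn V))
    have hP2 : IsPGroup 2 (↥(Pn V) ⧸ V.subgroupOf (Pn V)) := Pn_isPGroup.to_quotient _
    haveI : (C.map π).Normal := Subgroup.Normal.map inferInstance π (QuotientGroup.mk'_surjective _)
    have hne : Nontrivial (C.map π) := by
      refine Subgroup.nontrivial_iff_ne_bot _ |>.2 fun e => hxV ?_
      have : π ⟨x, hx⟩ ∈ C.map π := ⟨_, mem_centralizer_iff.2 fun u hu => (hxc u hu).symm, rfl⟩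
      rw [e, mem_bot] at this
      exact mem_subgroupOf.1 ((QuotientGroup.eq_one_iff _).1 this)
    obtain ⟨w, hw, hw1, hwc⟩ := Cfsg.Agent.FGS.SectionalRankFour.exists_central hP2 (C.map π)
      ((Subgroup.nontrivial_iff_ne_bot _).1 hne)
    obtain ⟨c, hc, rfl⟩ := hw
    have hcU : (c : G) ∈ U := ⟨c.2, fun p hp => by
      have := (mem_center_iff.1 hwc (π ⟨p, hp⟩))
      rw [← map_mul, ← map_mul] at this
      have h2 : π ⁅c, (⟨p, hp⟩ : Pn V)⁆ = 1 := by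
        rw [map_commutatorElement, commutatorElement_eq_one_iff_mul_comm, ← map_mul, ← map_mul]
        exact this.symm
      exact mem_subgroupOf.1 ((QuotientGroup.eq_one_iff _).1 h2)⟩
    refine hw1 ((QuotientGroup.eq_one_iff _).2 (mem_subgroupOf.2 (hUC c c.2 ?_ hcU)))
    exact fun u hu => (mem_centralizer_iff.1 (mem_subgroupOf.1 hc) u hu).symm
  have h1 : ∀ x ∈ Pn V, ∀ y ∈ Pn V, ⁅x, y⁆ ∈ V := by
    intro x hx y hy
    refine hcen _ (by rw [commutatorElement_def]; exact mul_mem (mul_mem (mul_mem hx hy) (inv_mem hx)) (inv_mem hy)) ?_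
    rintro u ⟨hu, hu'⟩
    have key : ∀ p ∈ Pn V, p * u * p⁻¹ = ⁅u, p⁆⁻¹ * u ∧ ⁅u, p⁆ ∈ V := fun p hp =>
      ⟨by simp [commutatorElement_def, mul_assoc], hu' p hp⟩
    have e1 : x * y * u * (x * y)⁻¹ = ⁅u, y⁆⁻¹ * (⁅u, x⁆⁻¹ * u) := by
      calc x * y * u * (x * y)⁻¹ = x * (y * u * y⁻¹) * x⁻¹ := by group
        _ = x * ⁅u, y⁆⁻¹ * x⁻¹ * (x * u * x⁻¹) := by rw [(key y hy).1]; group
        _ = _ := by rw [hcomm x hx _ (inv_mem (hu' y hy)), (key x hx).1]
    have e2 : y * x * u * (y * x)⁻¹ = ⁅u, y⁆⁻¹ * (⁅u, x⁆⁻¹ * u) := by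
      calc y * x * u * (y * x)⁻¹ = y * (x * u * x⁻¹) * y⁻¹ := by group
        _ = y * ⁅u, x⁆⁻¹ * y⁻¹ * (y * u * y⁻¹) := by rw [(key x hx).1]; group
        _ = ⁅u, x⁆⁻¹ * (⁅u, y⁆⁻¹ * u) := by rw [hcomm y hy _ (inv_mem (hu' x hx)), (key y hy).1]
        _ = _ := by rw [← mul_assoc, ← mul_assoc, h.comm (inv_mem (hu' x hx)) (inv_mem (hu' y hy))]
    have hxy : ⁅x, y⁆ ∈ Pn V := by
      rw [commutatorElement_def]; exact mul_mem (mul_mem (mul_mem hx hy) (inv_mem hx)) (inv_mem hy)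
    have e3 : ⁅x, y⁆ * (x * y * u * (x * y)⁻¹) * ⁅x, y⁆⁻¹ = x * y * u * (x * y)⁻¹ := by
      conv_lhs => rw [e1, ← e2]
      rw [commutatorElement_def]; group
    rw [e1] at e3
    set a := ⁅u, y⁆⁻¹
    set b := ⁅u, x⁆⁻¹
    have hab : a * b ∈ V := mul_mem (inv_mem (hu' y hy)) (inv_mem (hu' x hx))
    have e4 := hcomm _ hxy _ hab
    calc ⁅x, y⁆ * u = ⁅x, y⁆ * (a * b) ⁻¹ * ⁅x, y⁆⁻¹ * (⁅x, y⁆ * (a * (b * u)) * ⁅x, y⁆⁻¹) * ⁅x, y⁆ := by group
      _ = (a * b)⁻¹ * (a * (b * u)) * ⁅x, y⁆ := by rw [e3, hcomm _ hxy _ (inv_mem hab)]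
      _ = u * ⁅x, y⁆ := by group
  refine ⟨h1, fun x hx => hcen _ (mul_mem hx hx) fun u hu => ?_⟩
  have hc := h1 x hx u hu.1
  have e : ⁅x * x, u⁆ = 1 := by
    rw [show ⁅x * x, u⁆ = x * ⁅x, u⁆ * x⁻¹ * ⁅x, u⁆ by simp [commutatorElement_def, mul_assoc],
      hcomm x hx _ hc, h.sq hc]
  exact commutatorElement_eq_one_iff_mul_comm.1 e

end Cfsg.Agent.TILarge23
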