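import Mathlib

/-!
A finite bilinear multiplication of exponent two with identity, in which the inverse of every
left and of every right multiplication is again such a multiplication, is a field.
-/

set_option autoImplicit false

namespace Cfsg.Agent.TILarge23

/-- A bilinear multiplication with the left and right inverse property. -/
structure InvMul (V : Type*) [AddCommGroup V] where
  m : V →+ V →+ V
  e : V
  e_ne : e ≠ 0
  add_self : ∀ x : V, x + x = 0
  e_m : ∀ x : V, m e x = x
  m_e : ∀ x : V, m x e = x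
  linv : ∀ a : V, a ≠ 0 → ∃ a', ∀ z, m a' (m a z) = z
  rinv : ∀ a : V, a ≠ 0 → ∃ a', ∀ z, m (m z a) a' = z

variable {V : Type*} [AddCommGroup V]

namespace InvMul

variable (S : InvMul V)

/-- The opposite multiplication. -/
def op : InvMul V where
  m := S.m.flip
  e := S.e
  e_ne := S.e_ne
  add_self := S.add_self
  e_m x := S.m_e x
  m_e x := S.e_m x
  linv := S.rinv
  rinv := S.linv

theorem op_m (x y : V) : S.op.m x y = S.m y x := rfl

include S in
theorem eq_of_add_eq_zero {x y : V} (h : x + y = 0) : x = y :=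
  (eq_neg_of_add_eq_zero_left h).trans (eq_neg_of_add_eq_zero_left (S.add_self y)).symm

theorem zero_m (z : V) : S.m 0 z = 0 := by rw [map_zero]; rfl

theorem m_add_left (a b z : V) : S.m (a + b) z = S.m a z + S.m b z := by
  rw [map_add]; rfl

theorem m_ne {a b : V} (ha : a ≠ 0) (hb : b ≠ 0) : S.m a b ≠ 0 := fun h => by
  obtain ⟨a', ha'⟩ := S.linv a ha
  exact hb (by rw [← ha' b, h, map_zero])

theorem eq_zero_or {a b : V} (h : S.m a b = 0) : a = 0 ∨ b = 0 := by
  by_contra hh
  push Not at hh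
  exact S.m_ne hh.1 hh.2 h

theorem linv_ne {a a' : V} (h : ∀ z, S.m a' (S.m a z) = z) : a' ≠ 0 := fun h0 =>
  S.e_ne (by rw [← h S.e, h0, S.zero_m])

theorem linv_symm {a a' : V} (h : ∀ z, S.m a' (S.m a z) = z) (z : V) :
    S.m a (S.m a' z) = z := by
  obtain ⟨b, hb⟩ := S.linv a' (S.linv_ne h)
  have : ∀ w, S.m b w = S.m a w := fun w => by
    conv_lhs => rw [← h w]
    rw [hb]
  rw [← this, hb]

/-- The left Bol identity. -/
theorem bol (a b z : V) : S.m a (S.m b (S.m a z)) = S.m (S.m a (S.m b a)) z := by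
  suffices h : ∃ c, ∀ u, S.m a (S.m b (S.m a u)) = S.m c u by
    obtain ⟨c, hc⟩ := h
    have := hc S.e
    rw [S.m_e, S.m_e] at this
    rw [hc, this]
  rcases eq_or_ne a 0 with rfl | ha
  · exact ⟨0, fun u => by simp [S.zero_m]⟩
  rcases eq_or_ne b 0 with rfl | hb
  · exact ⟨0, fun u => by simp [S.zero_m]⟩
  obtain ⟨a', ha'⟩ := S.linv a ha
  obtain ⟨b', hb'⟩ := S.linv b hb
  by_cases hc0 : b' + a = 0
  · refine ⟨a, fun u => ?_⟩
    rw [S.eq_of_add_eq_zero hc0] at hb'
    exact hb' _
  obtain ⟨c', hc'⟩ := S.linv _ hc0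
  have hd0 : a' + c' ≠ 0 := fun h => by
    have e : a' = c' := S.eq_of_add_eq_zero h
    have h1 : S.m a (S.m a' ((S.m (b' + a)) S.e)) = S.m (b' + a) S.e := S.linv_symm ha' _
    rw [e, hc', S.m_e, S.m_e] at h1
    exact S.linv_ne hb' (by simpa using h1.symm)
  obtain ⟨d, hd⟩ := S.linv _ hd0
  refine ⟨a + d, fun u => ?_⟩
  set w := S.m b (S.m a u) with hw
  have h1 : S.m (b' + a) w = S.m a (u + w) := by
    rw [S.m_add_left, hw, hb', map_add]
  have h2 : S.m c' (S.m a (u + w)) = w := by rw [← h1, hc']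
  have h3 : S.m (a' + c') (S.m a (u + w)) = u := by
    rw [S.m_add_left, h2, ha', add_assoc, S.add_self, add_zero]
  have h4 : S.m d u = S.m a u + S.m a w := by
    rw [← map_add]
    conv_lhs => rw [← h3]
    rw [hd]
  rw [S.m_add_left, h4, ← add_assoc, S.add_self, zero_add]

/-- The associator. -/
def asc (a b c : V) : V := S.m (S.m a b) c + S.m a (S.m b c)

theorem asc_eq_zero_iff {a b c : V} : S.asc a b c = 0 ↔ S.m (S.m a b) c = S.m a (S.m b c) :=
  ⟨S.eq_of_add_eq_zero, fun h => by rw [asc, h, S.add_self]⟩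

theorem asc_op (a b c : V) : S.op.asc a b c = S.asc c b a := by
  simp only [asc, op_m]
  exact add_comm _ _

theorem asc_add_left (a a' b c : V) : S.asc (a + a') b c = S.asc a b c + S.asc a' b c := by
  simp only [asc, map_add, AddMonoidHom.add_apply]
  abel

theorem asc_add_mid (a b b' c : V) : S.asc a (b + b') c = S.asc a b c + S.asc a b' c := by
  simp only [asc, map_add, AddMonoidHom.add_apply]
  abel

theorem asc_add_right (a b c c' : V) : S.asc a b (c + c') = S.asc a b c + S.asc a b c' := by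
  simp only [asc, map_add, AddMonoidHom.add_apply]
  abel

theorem asc_self_left (a c : V) : S.asc a a c = 0 := by
  rw [asc_eq_zero_iff]
  have h := S.bol a S.e c
  rw [S.e_m, S.e_m] at h
  exact h.symm

theorem asc_swap12 (a b c : V) : S.asc a b c = S.asc b a c := by
  have h := S.asc_self_left (a + b) c
  rw [S.asc_add_left, S.asc_add_mid, S.asc_add_mid, S.asc_self_left, S.asc_self_left, zero_add,
    add_zero] at h
  exact S.eq_of_add_eq_zero h

theorem asc_swap23 (a b c : V) : S.asc a b c = S.asc a c b := by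
  have h := S.op.asc_swap12 c b a
  rwa [S.asc_op, S.asc_op] at h

theorem asc_rot (a b c : V) : S.asc a b c = S.asc b c a := by
  rw [S.asc_swap12, S.asc_swap23]

theorem asc_self_outer (a b : V) : S.asc a b a = 0 := by
  rw [S.asc_swap23, S.asc_self_left]

theorem teich (w x y z : V) :
    S.asc (S.m w x) y z + S.asc w (S.m x y) z + S.asc w x (S.m y z) =
      S.m w (S.asc x y z) + S.m (S.asc w x y) z := by
  refine S.eq_of_add_eq_zero ?_
  simp only [asc, map_add, AddMonoidHom.add_apply]
  calc _ = (S.m (S.m (S.m w x) y) z + S.m (S.m (S.m w x) y) z) +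
        (S.m (S.m w x) (S.m y z) + S.m (S.m w x) (S.m y z)) +
        (S.m (S.m w (S.m x y)) z + S.m (S.m w (S.m x y)) z) +
        (S.m w (S.m (S.m x y) z) + S.m w (S.m (S.m x y) z)) +
        (S.m w (S.m x (S.m y z)) + S.m w (S.m x (S.m y z))) := by abel
    _ = 0 := by simp only [S.add_self, add_zero]

theorem asc_bol (x y z : V) : S.asc (S.m x y) x z = S.asc x y (S.m x z) := by
  have h : S.m (S.m x y) x = S.m x (S.m y x) := S.asc_eq_zero_iff.1 (S.asc_self_outer x y)
  rw [asc, asc, h, ← S.bol, add_comm]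

theorem asc_mul_mid (x y z : V) : S.asc x (S.m y x) z = S.m x (S.asc x y z) := by
  have h := S.teich x y x z
  rw [S.asc_bol, S.asc_self_outer, S.zero_m, add_zero, S.asc_swap12 y x z] at h
  calc S.asc x (S.m y x) z
      = S.asc x y (S.m x z) + S.asc x (S.m y x) z + S.asc x y (S.m x z) +
          (S.asc x y (S.m x z) + S.asc x y (S.m x z)) - (S.asc x y (S.m x z) + S.asc x y (S.m x z)) -
          (S.asc x y (S.m x z) + S.asc x y (S.m x z)) := by abel
    _ = S.m x (S.asc x y z) := by rw [h, S.add_self, add_zero, sub_zero, sub_zero]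

theorem asc_sq {x y z : V} (h : S.asc x y z = 0) : S.asc (S.m x x) y z = 0 := by
  have h2 : S.asc x (S.m x y) z = 0 := by
    have := S.op.asc_mul_mid x y z
    rw [S.asc_op, S.asc_op, op_m, op_m, S.asc_swap12 z, S.asc_swap23 (S.m x y), S.asc_swap12 (S.m x y),
      S.asc_swap12 z y, S.asc_swap23 y, S.asc_swap12 y x, h, S.zero_m] at this
    exact this
  have h3 := S.teich x x y z
  rw [h2, S.asc_self_left, S.asc_self_left, h, add_zero, add_zero, map_zero, zero_add, S.zero_m]
    at h3
  exact h3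

/-- Powers. -/
def pw (x : V) : ℕ → V
  | 0 => S.e
  | n + 1 => S.m x (pw x n)

theorem asc_pw (x : V) : ∀ (j : ℕ) (z : V), S.asc x (S.pw x j) z = 0
  | 0, z => by rw [asc_eq_zero_iff, pw, S.m_e, S.e_m]
  | j + 1, z => by
    have h := S.teich x x (S.pw x j) z
    rw [S.asc_sq (asc_pw x j z), S.asc_self_left, S.asc_self_left, asc_pw x j z, map_zero,
      S.zero_m, add_zero, zero_add, add_zero] at h
    exact h

theorem pw_one (x : V) : S.pw x 1 = x := S.m_e x

theorem pw_add_apply (x : V) : ∀ (i j : ℕ) (z : V),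
    S.m (S.pw x (i + j)) z = S.m (S.pw x i) (S.m (S.pw x j) z)
  | 0, j, z => by rw [zero_add, pw, S.e_m]
  | i + 1, j, z => by
    rw [Nat.add_right_comm, pw, pw, S.asc_eq_zero_iff.1 (S.asc_pw x (i + j) z),
      pw_add_apply x i j z, S.asc_eq_zero_iff.1 (S.asc_pw x i _)]

theorem pw_mul (x : V) (i j : ℕ) : S.m (S.pw x i) (S.pw x j) = S.pw x (i + j) := by
  have := S.pw_add_apply x i j S.e
  rwa [S.m_e, S.m_e, eq_comm] at this

theorem asc_pw_pw (x : V) (i j : ℕ) (z : V) : S.asc (S.pw x i) (S.pw x j) z = 0 := by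
  rw [asc_eq_zero_iff, S.pw_mul, S.pw_add_apply]

theorem pw_ne {x : V} (hx : x ≠ 0) : ∀ j, S.pw x j ≠ 0
  | 0 => S.e_ne
  | j + 1 => S.m_ne hx (pw_ne hx j)

/-- The associator as an additive map of its first argument. -/
def ascL (b c : V) : V →+ V :=
  AddMonoidHom.mk' (fun a => S.asc a b c) fun a a' => S.asc_add_left a a' b c

/-- The additive group spanned by the powers of an element. -/
def gen (a : V) : AddSubgroup V := AddSubgroup.closure (Set.range (S.pw a))

theorem asc_gen {a k n : V} (hk : k ∈ S.gen a) (hn : n ∈ S.gen a) (z : V) : S.asc k n z = 0 := by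
  have hle : ∀ j, S.gen a ≤ (S.ascL (S.pw a j) z).ker := fun j =>
    (AddSubgroup.closure_le _).2 (by rintro _ ⟨i, rfl⟩; exact S.asc_pw_pw a i j z)
  have hle2 : S.gen a ≤ (S.ascL k z).ker :=
    (AddSubgroup.closure_le _).2 (by
      rintro _ ⟨j, rfl⟩
      show S.asc (S.pw a j) k z = 0
      rw [S.asc_swap12]
      exact hle j hk)
  have h : S.asc n k z = 0 := hle2 hn
  rwa [S.asc_swap12]

/-- An additive subgroup closed under the multiplication, on which it is associative. -/
structure Closed (T : AddSubgroup V) : Prop where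
  e_mem : S.e ∈ T
  m_mem : ∀ x ∈ T, ∀ y ∈ T, S.m x y ∈ T
  assoc : ∀ x ∈ T, ∀ y ∈ T, ∀ z ∈ T, S.m (S.m x y) z = S.m x (S.m y z)

/-- The ring structure on a closed subgroup. -/
@[reducible] def ringOf {T : AddSubgroup V} (h : S.Closed T) : Ring T :=
  { (inferInstance : AddCommGroup T) with
    mul := fun x y => ⟨S.m x y, h.m_mem x x.2 y y.2⟩
    one := ⟨S.e, h.e_mem⟩
    left_distrib := fun x y z => Subtype.ext (map_add (S.m (x : V)) (y : V) (z : V))
    right_distrib := fun x y z => Subtype.ext (S.m_add_left (x : V) (y : V) (z : V))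
    zero_mul := fun x => Subtype.ext (S.zero_m (x : V))
    mul_zero := fun x => Subtype.ext (map_zero (S.m (x : V)))
    mul_assoc := fun x y z => Subtype.ext (h.assoc (x : V) x.2 (y : V) y.2 (z : V) z.2)
    one_mul := fun x => Subtype.ext (S.e_m (x : V))
    mul_one := fun x => Subtype.ext (S.m_e (x : V)) }

variable [Finite V]

theorem closed_comm {T : AddSubgroup V} (h : S.Closed T) {x y : V} (hx : x ∈ T) (hy : y ∈ T) :
    S.m x y = S.m y x := by
  letI := S.ringOf h
  haveI : Nontrivial T := ⟨⟨0, 1, fun e => S.e_ne (congrArg Subtype.val e).symm⟩⟩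
  haveI : NoZeroDivisors T := ⟨fun {p q} e => by
    rcases S.eq_zero_or (congrArg Subtype.val e) with h' | h'
    · exact Or.inl (Subtype.ext h')
    · exact Or.inr (Subtype.ext h')⟩
  haveI : IsDomain T := NoZeroDivisors.to_isDomain T
  exact congrArg Subtype.val ((Finite.isDomain_to_isField T).mul_comm ⟨x, hx⟩ ⟨y, hy⟩)

theorem closed_eq_gen {T : AddSubgroup V} (h : S.Closed T) : ∃ g ∈ T, T = S.gen g := by
  letI := S.ringOf h
  haveI : Nontrivial T := ⟨⟨0, 1, fun e => S.e_ne (congrArg Subtype.val e).symm⟩⟩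
  haveI : NoZeroDivisors T := ⟨fun {p q} e => by
    rcases S.eq_zero_or (congrArg Subtype.val e) with h' | h'
    · exact Or.inl (Subtype.ext h')
    · exact Or.inr (Subtype.ext h')⟩
  haveI : IsDomain T := NoZeroDivisors.to_isDomain T
  letI := (Finite.isDomain_to_isField T).toField
  obtain ⟨u, hu⟩ := IsCyclic.exists_monoid_generator (α := Tˣ)
  have hpw : ∀ j : ℕ, S.pw ((u : T) : V) j = (((u : T) ^ j : T) : V) := by
    intro j
    induction j with
    | zero => rw [pow_zero]; rfl
    | succ j ih => rw [pow_succ', pw, ih]; rfl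
  refine ⟨((u : T) : V), (u : T).2, le_antisymm (fun x hx => ?_) ?_⟩
  · by_cases h0 : (⟨x, hx⟩ : T) = 0
    · rw [show x = 0 from congrArg Subtype.val h0]; exact zero_mem _
    · obtain ⟨j, hj⟩ := (Submonoid.mem_powers_iff _ _).1 (hu (Units.mk0 _ h0))
      refine AddSubgroup.subset_closure ⟨j, ?_⟩
      rw [hpw, ← Units.val_pow_eq_pow_val, hj]
      rfl
  · exact (AddSubgroup.closure_le _).2 (by rintro _ ⟨j, rfl⟩; rw [hpw]; exact SetLike.coe_mem _)

theorem gen_closed (a : V) : S.Closed (S.gen a) := by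
  have hm : ∀ x ∈ S.gen a, ∀ y ∈ S.gen a, S.m x y ∈ S.gen a := by
    intro x hx
    have h1 : ∀ i, ∀ y ∈ S.gen a, S.m (S.pw a i) y ∈ S.gen a := fun i =>
      (AddSubgroup.closure_le ((S.gen a).comap (S.m (S.pw a i)))).2 (by
        rintro _ ⟨j, rfl⟩
        show S.m (S.pw a i) (S.pw a j) ∈ S.gen a
        rw [S.pw_mul]
        exact AddSubgroup.subset_closure ⟨_, rfl⟩)
    intro y hy
    exact (AddSubgroup.closure_le ((S.gen a).comap (S.m.flip y))).2
      (by rintro _ ⟨i, rfl⟩; exact h1 i y hy) hx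
  exact ⟨AddSubgroup.subset_closure ⟨0, rfl⟩, hm,
    fun x hx y hy z _ => S.asc_eq_zero_iff.1 (S.asc_gen hx hy z)⟩

/-- An element normalising a maximal `gen` lies in it. -/
theorem mem_of_normalises {g x : V} (hmax : ∀ h : V, S.gen g ≤ S.gen h → S.gen h = S.gen g)
    (hx : x ≠ 0) (hn : ∀ n ∈ S.gen g, ∃ l ∈ S.gen g, S.m x n = S.m l x) : x ∈ S.gen g := by
  classical
  have hK := S.gen_closed g
  set K := S.gen g
  choose! σ hσK hσ using hn
  have hkn : ∀ k ∈ K, ∀ n ∈ K, ∀ z, S.m (S.m k n) z = S.m k (S.m n z) :=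
    fun k hk n hn z => S.asc_eq_zero_iff.1 (S.asc_gen hk hn z)
  have hlr : ∀ k ∈ K, ∀ n ∈ K, ∀ z, S.m (S.m k z) n = S.m k (S.m z n) :=
    fun k hk n hn z => S.asc_eq_zero_iff.1 (by rw [S.asc_swap23]; exact S.asc_gen hk hn z)
  have hmul : ∀ k ∈ K, ∀ n ∈ K, σ (S.m k n) = S.m (σ k) (σ n) := by
    intro k hk n hn
    have h1 : S.m x (S.m k n) = S.m (S.m (σ k) (σ n)) x := by
      have e : S.m (S.m x k) n = S.m x (S.m k n) := S.asc_eq_zero_iff.1
        (by rw [S.asc_rot]; exact S.asc_gen hk hn x)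
      rw [← e, hσ k hk, hlr _ (hσK k hk) n hn, hσ n hn, hkn _ (hσK k hk) _ (hσK n hn)]
    rw [hσ _ (hK.m_mem k hk n hn)] at h1
    refine sub_eq_zero.1 ((S.eq_zero_or (a := σ (S.m k n) - S.m (σ k) (σ n)) (b := x) ?_).resolve_right hx)
    rw [map_sub, AddMonoidHom.sub_apply, h1, sub_self]
  have hit : ∀ i : ℕ, ∀ n ∈ K, σ^[i] n ∈ K := by
    intro i
    induction i with
    | zero => exact fun n hn => hn
    | succ i ih => exact fun n hn => by rw [Function.iterate_succ_apply']; exact hσK _ (ih n hn)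
  have hitmul : ∀ i : ℕ, ∀ k ∈ K, ∀ n ∈ K, σ^[i] (S.m k n) = S.m (σ^[i] k) (σ^[i] n) := by
    intro i
    induction i with
    | zero => exact fun k _ n _ => rfl
    | succ i ih =>
      intro k hk n hn
      simp only [Function.iterate_succ_apply']
      rw [ih k hk n hn, hmul _ (hit i k hk) _ (hit i n hn)]
  have hcomm : ∀ i : ℕ, ∀ n ∈ K, S.m (S.pw x i) n = S.m (σ^[i] n) (S.pw x i) := by
    intro i
    induction i with
    | zero => exact fun n _ => by show S.m S.e n = S.m n S.e; rw [S.e_m, S.m_e]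
    | succ i ih =>
      intro n hn
      have hσi := hit i n hn
      have e2 : S.asc (σ (σ^[i] n)) x (S.pw x i) = 0 := by rw [S.asc_rot]; exact S.asc_pw x i _
      have e3 : S.asc x (σ^[i] n) (S.pw x i) = 0 := by rw [S.asc_swap23]; exact S.asc_pw x i _
      rw [pw, S.asc_eq_zero_iff.1 (S.asc_pw x i n), ih n hn, ← S.asc_eq_zero_iff.1 e3, hσ _ hσi,
        S.asc_eq_zero_iff.1 e2, Function.iterate_succ_apply']
  have formula : ∀ (i j : ℕ), ∀ k ∈ K, ∀ n ∈ K, S.m (S.m k (S.pw x i)) (S.m n (S.pw x j)) =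
      S.m (S.m k (σ^[i] n)) (S.pw x (i + j)) := by
    intro i j k hk n hn
    have hz : ∀ (p q : ℕ), ∀ l ∈ K, ∀ r ∈ K, S.asc l (S.m r (S.pw x p)) (S.pw x q) = 0 := by
      intro p q l hl r hr
      have h := S.teich l r (S.pw x p) (S.pw x q)
      rw [show S.asc (S.m l r) (S.pw x p) (S.pw x q) = 0 by rw [S.asc_rot]; exact S.asc_pw_pw x p q _,
        S.asc_gen hl hr, show S.asc r (S.pw x p) (S.pw x q) = 0 by
          rw [S.asc_rot]; exact S.asc_pw_pw x p q _,
        S.asc_gen hl hr, S.zero_m, map_zero, zero_add, add_zero, add_zero] at h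
      exact h
    have h0 : S.asc (S.m k (S.pw x i)) n (S.pw x j) = 0 := by
      have h := S.teich k (S.pw x i) n (S.pw x j)
      rw [hcomm i n hn, hz i j k hk _ (hit i n hn),
        show S.asc k (S.pw x i) (S.m n (S.pw x j)) = 0 by rw [S.asc_swap23]; exact hz j i k hk n hn,
        show S.asc (S.pw x i) n (S.pw x j) = 0 by rw [S.asc_swap23]; exact S.asc_pw_pw x i j n,
        show S.asc k (S.pw x i) n = 0 by rw [S.asc_swap23]; exact S.asc_gen hk hn _,
        S.zero_m, map_zero, add_zero, add_zero, add_zero] at h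
      exact h
    have h1 : S.asc (S.m k (σ^[i] n)) (S.pw x i) (S.pw x j) = 0 := by
      rw [S.asc_rot]; exact S.asc_pw_pw x i j _
    rw [← S.asc_eq_zero_iff.1 h0, hlr k hk n hn, hcomm i n hn, ← hkn k hk _ (hit i n hn),
      S.asc_eq_zero_iff.1 h1, S.pw_mul]
  set Z : Set V := {v | ∃ k ∈ K, ∃ i, v = S.m k (S.pw x i)}
  set T := AddSubgroup.closure Z
  have hZ : ∀ p ∈ Z, ∀ q ∈ Z, S.m p q ∈ Z := by
    rintro _ ⟨k, hk, i, rfl⟩ _ ⟨n, hn, j, rfl⟩
    exact ⟨_, hK.m_mem k hk _ (hit i n hn), i + j, formula i j k hk n hn⟩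
  have hT : S.Closed T := by
    refine ⟨AddSubgroup.subset_closure ⟨S.e, hK.e_mem, 0, (S.m_e S.e).symm⟩, ?_, ?_⟩
    · intro p hp q hq
      have h1 : ∀ p ∈ Z, T ≤ T.comap (S.m p) := fun p hp =>
        (AddSubgroup.closure_le _).2 fun q hq => AddSubgroup.subset_closure (hZ p hp q hq)
      exact (AddSubgroup.closure_le (T.comap (S.m.flip q))).2 (fun p hp => h1 p hp hq) hp
    · intro p hp q hq r hr
      rw [← S.asc_eq_zero_iff]
      have h0 : ∀ p ∈ Z, ∀ q ∈ Z, ∀ r ∈ Z, S.asc p q r = 0 := by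
        rintro _ ⟨k, hk, i, rfl⟩ _ ⟨n, hn, j, rfl⟩ _ ⟨l, hl, r, rfl⟩
        rw [asc_eq_zero_iff, formula i j k hk n hn, formula j r n hn l hl,
          formula _ r _ (hK.m_mem k hk _ (hit i n hn)) l hl,
          formula i _ k hk _ (hK.m_mem n hn _ (hit j l hl)), hitmul i n hn _ (hit j l hl),
          hkn k hk _ (hit i n hn), Function.iterate_add_apply, add_assoc]
      have h1 : ∀ q ∈ Z, ∀ r ∈ Z, T ≤ (S.ascL q r).ker := fun q hq r hr =>
        (AddSubgroup.closure_le _).2 fun p hp => h0 p hp q hq r hr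
      have h2 : ∀ r ∈ Z, ∀ p ∈ T, T ≤ (S.ascL p r).ker := fun r hr p hp =>
        (AddSubgroup.closure_le _).2 fun q hq => by
          show S.asc q p r = 0
          rw [S.asc_swap12]; exact h1 q hq r hr hp
      have h3 : T ≤ (S.ascL p q).ker :=
        (AddSubgroup.closure_le _).2 fun r hr => by
          show S.asc r p q = 0
          rw [S.asc_rot]; exact (S.asc_swap12 p q r).trans (h2 r hr p hp hq)
      rw [← S.asc_rot]
      exact h3 hr
  obtain ⟨h, -, hh⟩ := S.closed_eq_gen hT
  have hle : K ≤ T := fun k hk => AddSubgroup.subset_closure ⟨k, hk, 0, (S.m_e k).symm⟩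
  have hxT : x ∈ T := AddSubgroup.subset_closure
    ⟨S.e, hK.e_mem, 1, by rw [S.e_m, S.pw_one]⟩
  rw [← hmax h (hh ▸ hle), ← hh]
  exact hxT

theorem exists_gen_top : ∃ g : V, S.gen g = ⊤ := by
  classical
  obtain ⟨a, -, ha⟩ := Set.exists_max_image (Set.univ : Set V)
    (fun a => Nat.card (S.gen a)) Set.finite_univ ⟨S.e, trivial⟩
  have hmax : ∀ h : V, S.gen a ≤ S.gen h → S.gen h = S.gen a := fun h hle =>
    (AddSubgroup.eq_of_le_of_card_ge hle (ha h trivial)).symm
  refine ⟨a, ?_⟩
  have hK := S.gen_closed a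
  set K := S.gen a with hKdef
  letI : Ring K := S.ringOf hK
  haveI : Nontrivial K := ⟨⟨0, 1, fun e => S.e_ne (congrArg Subtype.val e).symm⟩⟩
  haveI : NoZeroDivisors K := ⟨fun {p q} e => by
    rcases S.eq_zero_or (congrArg Subtype.val e) with h' | h'
    · exact Or.inl (Subtype.ext h')
    · exact Or.inr (Subtype.ext h')⟩
  haveI : IsDomain K := NoZeroDivisors.to_isDomain K
  letI : Field K := (Finite.isDomain_to_isField K).toField
  letI : SMul K V := ⟨fun k v => S.m k v⟩
  letI : Module K V :=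
    { one_smul := fun v => S.e_m v
      mul_smul := fun k n v => S.asc_eq_zero_iff.1 (S.asc_gen k.2 n.2 v)
      smul_zero := fun k => map_zero (S.m k)
      smul_add := fun k v w => map_add (S.m k) v w
      add_smul := fun k n v => S.m_add_left k n v
      zero_smul := fun v => S.zero_m v }
  let aK : K := ⟨a, by rw [hKdef]; exact AddSubgroup.subset_closure ⟨1, S.pw_one a⟩⟩
  let R : Module.End K V :=
    { toFun := fun v => S.m v a
      map_add' := fun v w => S.m_add_left v w a
      map_smul' := fun k v => S.asc_eq_zero_iff.1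
        (by rw [S.asc_swap23]; exact S.asc_gen k.2 aK.2 v) }
  have hRpow : ∀ (j : ℕ) (v : V), (R ^ j) v = S.m v (S.pw a j) := by
    intro j
    induction j with
    | zero => intro v; rw [pow_zero]; exact (S.m_e v).symm
    | succ j ih =>
      intro v
      rw [pow_succ', Module.End.mul_apply, ih]
      show S.m (S.m v (S.pw a j)) a = _
      have e : S.asc v (S.pw a j) a = 0 := by
        rw [S.asc_rot]; exact S.asc_gen (AddSubgroup.subset_closure ⟨j, rfl⟩) aK.2 v
      rw [S.asc_eq_zero_iff.1 e]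
      congr 1
      exact (congrArg (S.m (S.pw a j)) (S.pw_one a).symm).trans (S.pw_mul a j 1)
  have hpw : ∀ j : ℕ, ((aK ^ j : K) : V) = S.pw a j := by
    intro j
    induction j with
    | zero => rw [pow_zero]; rfl
    | succ j ih => rw [pow_succ', pw, ← ih]; rfl
  have hcard : R ^ Nat.card K = R := by
    haveI := Fintype.ofFinite K
    ext v
    rw [hRpow, Nat.card_eq_fintype_card, ← hpw, FiniteField.pow_card]
    rfl
  have hall : ∀ v, R v = aK • v := by
    by_contra hh
    push Not at hh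
    obtain ⟨v, hv⟩ := hh
    haveI := Fintype.ofFinite K
    have hprod : (Polynomial.X ^ Fintype.card K - Polynomial.X : Polynomial K) =
        (Polynomial.X - Polynomial.C aK) *
          ∏ l ∈ Finset.univ.erase aK, (Polynomial.X - Polynomial.C l) := by
      rw [Finset.mul_prod_erase Finset.univ (fun l => Polynomial.X - Polynomial.C l)
        (Finset.mem_univ aK)]
      rw [Finset.prod_eq_multiset_prod, ← FiniteField.roots_X_pow_card_sub_X K]
      refine (Polynomial.prod_multiset_X_sub_C_of_monic_of_roots_card_eq ?_ ?_).symm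
      · exact Polynomial.monic_X_pow_sub (by rw [Polynomial.degree_X]; exact_mod_cast Fintype.one_lt_card)
      · rw [FiniteField.roots_X_pow_card_sub_X, FiniteField.X_pow_card_sub_X_natDegree_eq K Fintype.one_lt_card, ← Finset.card_def, Finset.card_univ]
    set w := R v - aK • v with hw
    have hw0 : (Polynomial.aeval R (∏ l ∈ Finset.univ.erase aK, (Polynomial.X - Polynomial.C l))) w
        = 0 := by
      have h := congrArg (fun q => (Polynomial.aeval R q) v) hprod
      simp only [map_sub, map_pow, Polynomial.aeval_X] at h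
      rw [← Nat.card_eq_fintype_card, hcard, sub_self, LinearMap.zero_apply] at h
      rw [mul_comm, map_mul, Module.End.mul_apply] at h
      rw [h, hw]
      simp [Polynomial.aeval_X, Polynomial.aeval_C, Algebra.smul_def]
    have key : ∀ s : Finset K, aK ∉ s → ∀ u : V, u ≠ 0 →
        (Polynomial.aeval R (∏ l ∈ s, (Polynomial.X - Polynomial.C l))) u = 0 →
        ∃ l : K, l ≠ aK ∧ ∃ x : V, x ≠ 0 ∧ R x = l • x := by
      intro s
      induction s using Finset.induction_on with
      | empty => intro _ u hu h; exact absurd (by simpa using h) hu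
      | insert l s hl ih =>
        intro hs u hu h
        rw [Finset.prod_insert hl, map_mul, Module.End.mul_apply] at h
        by_cases h0 : (Polynomial.aeval R (∏ l ∈ s, (Polynomial.X - Polynomial.C l))) u = 0
        · exact ih (fun hm => hs (Finset.mem_insert_of_mem hm)) u hu h0
        · refine ⟨l, fun e => hs (e ▸ Finset.mem_insert_self l s), _, h0, ?_⟩
          simpa [sub_eq_zero, Algebra.algebraMap_eq_smul_one] using h
    obtain ⟨l, hl, x, hx, hxl⟩ := key _ (Finset.notMem_erase _ _) w (sub_ne_zero.2 hv) hw0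
    have hxK : x ∈ K := by
      refine S.mem_of_normalises hmax hx fun n hn => ?_
      let N : AddSubgroup V :=
        { carrier := {n | ∃ l' ∈ K, S.m x n = S.m l' x}
          zero_mem' := ⟨0, zero_mem K, by rw [map_zero, S.zero_m]⟩
          add_mem' := by
            rintro p q ⟨lp, hlp, ep⟩ ⟨lq, hlq, eq⟩
            exact ⟨lp + lq, add_mem hlp hlq, by rw [map_add, S.m_add_left, ep, eq]⟩
          neg_mem' := by
            rintro p ⟨lp, hlp, ep⟩
            exact ⟨-lp, neg_mem hlp, by rw [map_neg, map_neg, ep]; rfl⟩ }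
      refine (AddSubgroup.closure_le N).2 ?_ hn
      rintro _ ⟨j, rfl⟩
      refine ⟨((l ^ j : K) : V), (l ^ j).2, ?_⟩
      rw [← hRpow]
      show (R ^ j) x = (l ^ j) • x
      induction j with
      | zero => simp
      | succ j ih => rw [pow_succ', Module.End.mul_apply, ih, map_smul, hxl, smul_smul, pow_succ]
    apply hl
    have h1 : S.m x a = S.m l x := hxl
    rw [S.closed_comm hK hxK aK.2] at h1
    refine Subtype.ext (sub_eq_zero.1 ((S.eq_zero_or (a := (l : V) - a) (b := x) ?_).resolve_right hx))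
    rw [map_sub, AddMonoidHom.sub_apply, ← h1, sub_self]
  refine eq_top_iff.2 fun x _ => ?_
  by_cases hx : x = 0
  · rw [hx]; exact zero_mem _
  refine S.mem_of_normalises hmax hx fun n hn => ⟨n, hn, ?_⟩
  let N : AddSubgroup V := ((S.m x) - (S.m.flip x)).ker
  have hle : K ≤ N := (AddSubgroup.closure_le N).2 (by
    rintro _ ⟨j, rfl⟩
    show S.m x (S.pw a j) - S.m (S.pw a j) x = 0
    rw [sub_eq_zero, ← hRpow, ← hpw j]
    show (R ^ j) x = (aK ^ j) • x
    induction j with
    | zero => simp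
    | succ j ih => rw [pow_succ', Module.End.mul_apply, ih, map_smul, hall, smul_smul, pow_succ])
  exact sub_eq_zero.1 (hle hn)

theorem mul_comm' (x y : V) : S.m x y = S.m y x := by
  obtain ⟨g, hg⟩ := S.exists_gen_top
  exact S.closed_comm (hg ▸ S.gen_closed g) (AddSubgroup.mem_top x) (AddSubgroup.mem_top y)

theorem mul_assoc' (x y z : V) : S.m (S.m x y) z = S.m x (S.m y z) := by
  obtain ⟨g, hg⟩ := S.exists_gen_top
  exact S.asc_eq_zero_iff.1 (S.asc_gen (a := g) (by rw [hg]; trivial) (by rw [hg]; trivial) z)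

end InvMul

end Cfsg.Agent.TILarge23
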