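import Cfsg.Agent.Lib.TILarge23.Triple
import Cfsg.Agent.Lib.TILarge23.Semifield
import Cfsg.Agent.Lib.Root.SLTwo
import Cfsg.Agent.Lib.LocalEvenA.FrattiniP
import Cfsg.Agent.Lib.Basics.Frattini

/-!
The group generated by `C_{O₂(N(V))}(V)` and a conjugate induces `SL₂` on the join of two
conjugates of `V`.
-/

set_option autoImplicit false
set_option linter.unusedSectionVars false

namespace Cfsg.Agent.TILarge23

open Subgroup
open scoped commutatorElement Matrix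

/-- A finite field has a copy in `Type`. -/
theorem exists_field_type (M : Type*) [Field M] [Finite M] :
    ∃ (F : Type) (_ : Field F) (_ : Fintype F), Nonempty (M ≃+* F) :=
  let φ : {i : Fin (Nat.card M) // True} ≃ M :=
    (Equiv.subtypeUnivEquiv fun _ => trivial).trans (Finite.equivFin M).symm
  let _ := φ.field
  ⟨{i : Fin (Nat.card M) // True}, φ.field, inferInstance, ⟨(Equiv.ringEquiv φ).symm⟩⟩

/-- An `InvMul` on a finite type is the multiplication of a finite field living in `Type`. -/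
theorem InvMul.exists_field {M : Type*} [AddCommGroup M] [Finite M] (S : InvMul M) :
    ∃ (F : Type) (_ : Field F) (_ : Fintype F) (θ : M ≃+ F),
      ∀ x y, θ (S.m x y) = θ x * θ y := by
  classical
  let _ : CommRing M :=
    { (inferInstance : AddCommGroup M) with
      mul := fun x y => S.m x y
      one := S.e
      left_distrib := fun x y z => map_add (S.m x) y z
      right_distrib := fun x y z => S.m_add_left x y z
      zero_mul := fun x => S.zero_m x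
      mul_zero := fun x => map_zero (S.m x)
      mul_assoc := fun x y z => S.mul_assoc' x y z
      one_mul := fun x => S.e_m x
      mul_one := fun x => S.m_e x
      mul_comm := fun x y => S.mul_comm' x y }
  haveI : Nontrivial M := ⟨⟨0, S.e, fun e => S.e_ne e.symm⟩⟩
  haveI : NoZeroDivisors M := ⟨fun {p q} e => S.eq_zero_or e⟩
  haveI : IsDomain M := NoZeroDivisors.to_isDomain M
  let _ : Field M := (Finite.isDomain_to_isField M).toField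
  obtain ⟨F, _, _, ⟨θ⟩⟩ := exists_field_type M
  exact ⟨F, inferInstance, inferInstance, θ.toAddEquiv, fun x y => map_mul θ x y⟩

variable {G : Type*} [Group G] [Finite G] {V X A : Subgroup G}

namespace Triple

variable (T : Triple V X A)
include T

theorem commVX {v x : G} (hv : v ∈ V) (hx : x ∈ X) : v * x = x * v := Pn_comm (T.memX hx) hv

theorem mem_W {y : G} : y ∈ V ⊔ X ↔ ∃ v ∈ V, ∃ x ∈ X, y = v * x := by
  constructor
  · intro hy
    have hle : V ≤ normalizer (X : Set G) := fun v hv =>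
      centralizer_le_normalizer _ (mem_centralizer_iff.2 fun x hx => (T.commVX hv hx).symm)
    rw [← SetLike.mem_coe, coe_mul_of_left_le_normalizer_right _ _ hle] at hy
    obtain ⟨v, hv, x, hx, rfl⟩ := hy
    exact ⟨v, hv, x, hx, rfl⟩
  · rintro ⟨v, hv, x, hx, rfl⟩
    exact mul_mem_sup hv hx

theorem eq_one_VX {y : G} (hv : y ∈ V) (hx : y ∈ X) : y = 1 :=
  T.ti.eq_one_of_mem T.pairX.1 (Conj.refl V) T.pairX.2.1 hx hv

theorem decomp_unique {v v' x x' : G} (hv : v ∈ V) (hv' : v' ∈ V) (hx : x ∈ X) (hx' : x' ∈ X)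
    (e : v * x = v' * x') : v = v' ∧ x = x' := by
  have h1 : v'⁻¹ * v = x' * x⁻¹ := by
    calc v'⁻¹ * v = v'⁻¹ * (v * x) * x⁻¹ := by group
      _ = v'⁻¹ * (v' * x') * x⁻¹ := by rw [e]
      _ = x' * x⁻¹ := by group
  have h2 := T.eq_one_VX (mul_mem (inv_mem hv') hv) (h1 ▸ mul_mem hx' (inv_mem hx))
  have h3 := inv_mul_eq_one.1 h2
  exact ⟨h3.symm, mul_left_cancel (h3 ▸ e)⟩

theorem cj_le_W {a : G} (ha : a ∈ A) : cj a X ≤ V ⊔ X := by
  intro y hy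
  obtain ⟨x, hx, rfl⟩ := hy
  show a * x * a⁻¹ ∈ V ⊔ X
  rw [T.conj_eq ha hx]
  exact mul_mem_sup (T.ti.comm_mem (T.memA ha) (T.memX hx)) hx

theorem cj_ne_V {a : G} (ha : a ∈ A) : cj a X ≠ V := fun e =>
  T.pairX.2.1 (cj_injective a (e.trans (T.ti.cj_fix (T.memA ha)).symm))

theorem cj_ne_X {a : G} (ha : a ∈ A) (ha1 : a ≠ 1) : cj a X ≠ X := fun e => by
  obtain ⟨x, hx, hx1⟩ := T.nontrivial
  refine T.nc a ha ha1 x hx hx1 (T.eq_one_VX (T.ti.comm_mem (T.memA ha) (T.memX hx)) ?_)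
  rw [commutatorElement_def]
  exact mul_mem (e.le (conj_mem_cj hx)) (inv_mem hx)

/-- A conjugate in `V ⊔ X` is `V` or a conjugate of `X` under `A`. -/
theorem line {Z : Subgroup G} (hZ : Conj V Z) (hle : Z ≤ V ⊔ X) (hne : Z ≠ V) :
    ∃ a ∈ A, Z = cj a X := by
  obtain ⟨x₀, hx₀, hx₀1⟩ := T.nontrivial
  obtain ⟨z, hz, hz1⟩ : ∃ z ∈ Z, z ≠ 1 := by
    by_contra hh
    push Not at hh
    have hbot : Z = ⊥ := eq_bot_iff.2 fun z hz => mem_bot.2 (hh z hz)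
    have hc := hZ.card
    rw [hbot, Subgroup.card_bot, ← T.pairX.1.card] at hc
    rw [Subgroup.card_eq_one.1 hc.symm] at hx₀
    exact hx₀1 (mem_bot.1 hx₀)
  obtain ⟨v, hv, x, hx, rfl⟩ := T.mem_W.1 (hle hz)
  have hx1 : x ≠ 1 := fun e => hz1 (T.ti.eq_one_of_mem hZ (Conj.refl V) hne hz
    (by rw [e, mul_one]; exact hv))
  obtain ⟨a, ha, hav⟩ := T.surjA hx hx1 hv
  exact ⟨a, ha, T.ti.eq_of_inf hZ (T.pairX.1.cj_right a) hz1 hz
    (by rw [← hav, ← T.conj_eq ha hx]; exact conj_mem_cj hx)⟩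

theorem pairV : Pair X V := ⟨T.pairX.1.symm, T.pairX.2.1.symm, T.symmetry⟩

theorem exists_dual : ∃ B, Triple X V B := exists_triple (T.ti.conj T.pairX.1) T.pairV

theorem inv_closed {a₀ a : G} (ha₀ : a₀ ∈ A) (ha₀1 : a₀ ≠ 1) (ha : a ∈ A) (ha1 : a ≠ 1) :
    ∃ a' ∈ A, ∀ x ∈ X, ∀ y ∈ X, ⁅a, x⁆ = ⁅a₀, y⁆ → ⁅a', y⁆ = ⁅a₀, x⁆ := by
  obtain ⟨B, T'⟩ := T.exists_dual
  have h := T.ti
  have hle : cj a₀ X ≤ X ⊔ V := (T.cj_le_W ha₀).trans (sup_comm V X).le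
  obtain ⟨s, hs, hsV⟩ := T'.line (T.pairX.1.symm.trans (T.pairX.1.cj_right a₀)) hle
    (T.cj_ne_X ha₀ ha₀1)
  have hsP : s ∈ Pn X := T'.memA hs
  have hsx : ∀ x ∈ X, s * x * s⁻¹ = x := fun x hx => (T.ti.conj T.pairX.1).conj_comm hsP hx
  have hsw : ∀ w ∈ V, ⁅s, w⁆ ∈ X ∧ ⁅a₀, ⁅s, w⁆⁆ = w ∧ s * w * s⁻¹ = ⁅s, w⁆ * w := by
    intro w hw
    have h1 : s * w * s⁻¹ = ⁅s, w⁆ * w := T'.conj_eq hs hw
    have h2 : ⁅s, w⁆ ∈ X := T'.ti.comm_mem hsP (T'.memX hw)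
    have h3 : s * w * s⁻¹ ∈ cj a₀ X := hsV ▸ conj_mem_cj hw
    obtain ⟨x, hx, hxe⟩ := h3
    have h4 : a₀ * x * a₀⁻¹ = ⁅s, w⁆ * w := hxe.trans h1
    rw [T.conj_eq ha₀ hx, ← T.commVX hw h2] at h4
    obtain ⟨h5, h6⟩ := T.decomp_unique (h.comm_mem (T.memA ha₀) (T.memX hx)) hw hx h2 h4
    exact ⟨h2, h6 ▸ h5, h1⟩
  have ha₀i : a₀⁻¹ = a₀ := (h.conj T.pairA.1).inv_eq ha₀
  have hfix : ∀ w ∈ V, a₀ * w * a₀⁻¹ = w := fun w hw => h.conj_comm (T.memA ha₀) hw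
  have hsy : ∀ y ∈ X, ⁅s, ⁅a₀, y⁆⁆ = y := fun y hy => by
    obtain ⟨h1, h2, -⟩ := hsw _ (h.comm_mem (T.memA ha₀) (T.memX hy))
    exact T.injOn ha₀ ha₀1 h1 hy h2
  set J := a₀ * s * a₀ with hJ
  have hconj : ∀ u, J * u * J⁻¹ = a₀ * (s * (a₀ * u * a₀⁻¹) * s⁻¹) * a₀⁻¹ := fun u => by
    rw [hJ, show a₀ * s * a₀ = a₀ * s * a₀ from rfl]; group
  have hJy : ∀ y ∈ X, J * y * J⁻¹ = ⁅a₀, y⁆ := by
    intro y hy
    have hw := h.comm_mem (T.memA ha₀) (T.memX hy)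
    rw [hconj, T.conj_eq ha₀ hy,
      show s * (⁅a₀, y⁆ * y) * s⁻¹ = s * ⁅a₀, y⁆ * s⁻¹ * (s * y * s⁻¹) by group,
      (hsw _ hw).2.2, hsy y hy, hsx y hy, ← T.commVX hw hy, mul_assoc ⁅a₀, y⁆ y y,
      (h.conj T.pairX.1).sq hy, mul_one, hfix _ hw]
  have hJv : ∀ y ∈ X, J * ⁅a₀, y⁆ * J⁻¹ = y := by
    intro y hy
    have hw := h.comm_mem (T.memA ha₀) (T.memX hy)
    rw [hconj, hfix _ hw, (hsw _ hw).2.2, hsy y hy,
      show a₀ * (y * ⁅a₀, y⁆) * a₀⁻¹ = a₀ * y * a₀⁻¹ * (a₀ * ⁅a₀, y⁆ * a₀⁻¹) by group,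
      hfix _ hw, T.conj_eq ha₀ hy, mul_assoc, ← T.commVX hw hy, ← mul_assoc, h.sq hw, one_mul]
  have himg : ∀ x ∈ X, ∀ y ∈ X, ⁅a, x⁆ = ⁅a₀, y⁆ →
      J * (a * x * a⁻¹) * J⁻¹ = ⁅a₀, x⁆ * y := by
    intro x hx y hy e
    rw [T.conj_eq ha hx, e, show J * (⁅a₀, y⁆ * x) * J⁻¹ = J * ⁅a₀, y⁆ * J⁻¹ * (J * x * J⁻¹) by group,
      hJv y hy, hJy x hx, T.commVX (h.comm_mem (T.memA ha₀) (T.memX hx)) hy]
  set Z := cj J (cj a X) with hZ
  have hZc : Conj V Z := (T.pairX.1.cj_right a).cj_right J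
  have hZle : Z ≤ V ⊔ X := by
    rintro _ ⟨_, ⟨x, hx, rfl⟩, rfl⟩
    obtain ⟨y, hy, hye⟩ := T.surj ha₀ ha₀1 (h.comm_mem (T.memA ha) (T.memX hx))
    show J * (a * x * a⁻¹) * J⁻¹ ∈ V ⊔ X
    rw [himg x hx y hy hye.symm]
    exact mul_mem_sup (h.comm_mem (T.memA ha₀) (T.memX hx)) hy
  have hZne : Z ≠ V := by
    intro e
    obtain ⟨x, hx, hx1⟩ := T.nontrivial
    obtain ⟨y, hy, hye⟩ := T.surj ha₀ ha₀1 (h.comm_mem (T.memA ha) (T.memX hx))
    have h1 : ⁅a₀, x⁆ * y ∈ V := by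
      rw [← himg x hx y hy hye.symm, ← e]
      exact conj_mem_cj (conj_mem_cj hx)
    have h2 := T.eq_one_VX
      ((Subgroup.mul_mem_cancel_left V (h.comm_mem (T.memA ha₀) (T.memX hx))).1 h1) hy
    refine T.nc a ha ha1 x hx hx1 ?_
    rw [← hye, h2, commutatorElement_one_right]
  obtain ⟨a', ha', hZa⟩ := T.line hZc hZle hZne
  refine ⟨a', ha', fun x hx y hy e => ?_⟩
  have h1 : ⁅a₀, x⁆ * y ∈ cj a' X := by
    rw [← hZa, ← himg x hx y hy e]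
    exact conj_mem_cj (conj_mem_cj hx)
  obtain ⟨z, hz, hze⟩ := h1
  have h2 : a' * z * a'⁻¹ = ⁅a₀, x⁆ * y := hze
  rw [T.conj_eq ha' hz] at h2
  obtain ⟨h3, h4⟩ := T.decomp_unique (h.comm_mem (T.memA ha') (T.memX hz))
    (h.comm_mem (T.memA ha₀) (T.memX hx)) hz hy h2
  rw [← h4, h3]

/-- Coordinates of `V`, `X`, `A` over a field in which commutation is multiplication. -/
theorem exists_coord : ∃ (F : Type) (_ : Field F) (_ : Fintype F) (τ ξ γ : F → G),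
    Fintype.card F = Nat.card V ∧ Function.Injective τ ∧ Function.Injective ξ ∧
    (∀ s t, τ (s + t) = τ s * τ t) ∧ (∀ s t, ξ (s + t) = ξ s * ξ t) ∧
    (∀ s, τ s ∈ V) ∧ (∀ s, ξ s ∈ X) ∧ (∀ s, γ s ∈ A) ∧
    (∀ v ∈ V, ∃ s, τ s = v) ∧ (∀ x ∈ X, ∃ s, ξ s = x) ∧ (∀ a ∈ A, ∃ s, γ s = a) ∧
    (∀ s, γ s = 1 ↔ s = 0) ∧
    ∀ s t, ⁅γ s, ξ t⁆ = τ (s * t) := by
  classical
  have h := T.ti
  obtain ⟨x₀, hx₀, hx₀1⟩ := T.nontrivial
  obtain ⟨a₀, ha₀, ha₀1⟩ := T.symm.nontrivial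
  letI : CommGroup V :=
    { (inferInstance : Group V) with
      mul_comm := fun a b => Subtype.ext (h.comm a.2 b.2) }
  have hα : ∀ v : Additive V, ∃ a ∈ A, ⁅a, x₀⁆ = (v.toMul : G) := fun v =>
    T.surjA hx₀ hx₀1 v.toMul.2
  have hβ : ∀ v : Additive V, ∃ x ∈ X, ⁅a₀, x⁆ = (v.toMul : G) := fun v =>
    T.surj ha₀ ha₀1 v.toMul.2
  choose α hαA hα using hα
  choose β hβX hβ using hβ
  have hαu : ∀ {a b : G}, a ∈ A → b ∈ A → ⁅a, x₀⁆ = ⁅b, x₀⁆ → a = b := fun ha hb e =>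
    T.symm.injOn hx₀ hx₀1 ha hb (by
      rw [h.comm_swap (T.memA ha) (T.memX hx₀), h.comm_swap (T.memA hb) (T.memX hx₀), e])
  have hβu : ∀ {x y : G}, x ∈ X → y ∈ X → ⁅a₀, x⁆ = ⁅a₀, y⁆ → x = y := fun hx hy e =>
    T.injOn ha₀ ha₀1 hx hy e
  have hαadd : ∀ v w, α (v + w) = α v * α w := fun v w =>
    hαu (hαA _) (mul_mem (hαA v) (hαA w)) (by
      rw [h.comm_mul_left (T.memA (hαA v)) (T.memA (hαA w)) (T.memX hx₀), hα, hα, hα]; rfl)
  have hβadd : ∀ v w, β (v + w) = β v * β w := fun v w =>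
    hβu (hβX _) (mul_mem (hβX v) (hβX w)) (by
      rw [h.comm_mul_right (T.memA ha₀) (T.memX (hβX v)) (T.memX (hβX w)), hβ, hβ, hβ]; rfl)
  let mm : Additive V → Additive V → Additive V := fun v w =>
    Additive.ofMul ⟨⁅α v, β w⁆, h.comm_mem (T.memA (hαA v)) (T.memX (hβX w))⟩
  have hmm : ∀ v w, ((mm v w).toMul : G) = ⁅α v, β w⁆ := fun v w => rfl
  have hext : ∀ {v w : Additive V}, (v.toMul : G) = w.toMul → v = w := fun e =>
    Additive.toMul.injective (Subtype.ext e)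
  have e1 : ∀ v w u, mm (v + w) u = mm v u + mm w u := fun v w u => hext (by
    show ⁅α (v + w), β u⁆ = ⁅α v, β u⁆ * ⁅α w, β u⁆
    rw [hαadd, h.comm_mul_left (T.memA (hαA v)) (T.memA (hαA w)) (T.memX (hβX u))])
  have e2 : ∀ v w u, mm v (w + u) = mm v w + mm v u := fun v w u => hext (by
    show ⁅α v, β (w + u)⁆ = ⁅α v, β w⁆ * ⁅α v, β u⁆
    rw [hβadd, h.comm_mul_right (T.memA (hαA v)) (T.memX (hβX w)) (T.memX (hβX u))])
  let e : Additive V := Additive.ofMul ⟨⁅a₀, x₀⁆, h.comm_mem (T.memA ha₀) (T.memX hx₀)⟩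
  have hαe : α e = a₀ := hαu (hαA _) ha₀ (hα e)
  have hβe : β e = x₀ := hβu (hβX _) hx₀ (hβ e)
  have hα1 : ∀ v, α v = 1 → v = 0 := fun v e => hext (by
    rw [← hα v, e, commutatorElement_one_left]; rfl)
  have hβ1 : ∀ v, β v = 1 → v = 0 := fun v e => hext (by
    rw [← hβ v, e, commutatorElement_one_right]; rfl)
  let S : InvMul (Additive V) :=
    { m := AddMonoidHom.mk' (fun v => AddMonoidHom.mk' (mm v) (e2 v))
        (fun v w => AddMonoidHom.ext fun u => e1 v w u)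
      e := e
      e_ne := fun e0 => T.nc a₀ ha₀ ha₀1 x₀ hx₀ hx₀1 (congrArg (fun v => (v.toMul : G)) e0)
      add_self := fun v => hext (h.sq v.toMul.2)
      e_m := fun v => hext (by show ⁅α e, β v⁆ = _; rw [hαe, hβ])
      m_e := fun v => hext (by show ⁅α v, β e⁆ = _; rw [hβe, hα])
      linv := by
        intro v hv
        obtain ⟨a', ha', hclosed⟩ := T.inv_closed ha₀ ha₀1 (hαA v) (fun e => hv (hα1 v e))
        refine ⟨Additive.ofMul ⟨⁅a', x₀⁆, h.comm_mem (T.memA ha') (T.memX hx₀)⟩, fun z => hext ?_⟩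
        show ⁅α _, β (mm v z)⁆ = _
        rw [hαu (hαA _) ha' (hα _), hclosed (β z) (hβX z) _ (hβX _) (hmm v z ▸ (hβ (mm v z)).symm)]
        exact hβ z
      rinv := by
        intro v hv
        obtain ⟨x', hx', hclosed⟩ := T.symm.inv_closed hx₀ hx₀1 (hβX v) (fun e => hv (hβ1 v e))
        refine ⟨Additive.ofMul ⟨⁅a₀, x'⁆, h.comm_mem (T.memA ha₀) (T.memX hx')⟩, fun z => hext ?_⟩
        show ⁅α (mm z v), β _⁆ = _
        rw [hβu (hβX _) hx' (hβ _), h.comm_swap (T.memX hx') (T.memA (hαA _)),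
          hclosed (α z) (hαA z) _ (hαA _) ?_, h.comm_swap (T.memA (hαA z)) (T.memX hx₀), hα]
        rw [h.comm_swap (T.memA (hαA _)) (T.memX (hβX v)),
          h.comm_swap (T.memA (hαA _)) (T.memX hx₀), hα, hmm] }
  obtain ⟨F, _, _, θ, hθ⟩ := S.exists_field
  have hcard : Fintype.card F = Nat.card V := by
    rw [← Nat.card_eq_fintype_card, ← Nat.card_congr θ.toEquiv]
    exact Nat.card_congr Additive.toMul
  refine ⟨F, inferInstance, inferInstance, fun s => ((θ.symm s).toMul : G),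
    fun s => β (θ.symm s), fun s => α (θ.symm s), hcard,
    fun s t e => θ.symm.injective (hext e),
    fun s t e => θ.symm.injective (hext (by rw [← hβ, ← hβ]; exact congrArg (⁅a₀, ·⁆) e)),
    fun s t => ?_, fun s t => ?_, fun s => (θ.symm s).toMul.2, fun s => hβX _, fun s => hαA _,
    fun v hv => ⟨θ (Additive.ofMul ⟨v, hv⟩), by simp⟩,
    fun x hx => ⟨θ (Additive.ofMul ⟨⁅a₀, x⁆, h.comm_mem (T.memA ha₀) (T.memX hx)⟩),
      by simp only [AddEquiv.symm_apply_apply]; exact hβu (hβX _) hx (hβ _)⟩,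
    fun a ha => ⟨θ (Additive.ofMul ⟨⁅a, x₀⁆, h.comm_mem (T.memA ha) (T.memX hx₀)⟩),
      by simp only [AddEquiv.symm_apply_apply]; exact hαu (hαA _) ha (hα _)⟩,
    fun s => ⟨fun e => ?_, fun e => ?_⟩, fun s t => ?_⟩
  · simp only [map_add]; rfl
  · simp only [map_add, hβadd]
  · simpa using congrArg θ (hα1 _ e)
  · refine hαu (hαA _) (one_mem A) ?_
    simp only [e, map_zero, hα, commutatorElement_one_left]; rfl
  · rw [← hmm]
    congr 2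
    refine θ.injective ?_
    rw [AddEquiv.apply_symm_apply]
    exact (hθ _ _).trans (by rw [θ.apply_symm_apply, θ.apply_symm_apply])

/-- `H` induces `SL₂` on `V ⊔ X`. -/
theorem sl_two_action {g : G} (hg : X = cj g V) :
    Pn V ⊔ Pn X ≤ normalizer ((V ⊔ X : Subgroup G) : Set G) ∧
    ∃ (F : Type) (_ : Field F) (_ : Fintype F), Fintype.card F = Nat.card V ∧
      (∀ _hN : ((centralizer ((V ⊔ X : Subgroup G) : Set G)).subgroupOf (Pn V ⊔ Pn X)).Normal,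
        Nonempty (↥(Pn V ⊔ Pn X) ⧸
          (centralizer ((V ⊔ X : Subgroup G) : Set G)).subgroupOf (Pn V ⊔ Pn X) ≃*
            Matrix.SpecialLinearGroup (Fin 2) F)) ∧
      ∀ v₁ ∈ V, ∀ v₂ ∈ V, v₁ ≠ 1 → v₂ ≠ 1 →
        ∃ m ∈ normalizer (V : Set G), m * v₁ * m⁻¹ = v₂ := by
  classical
  have h := T.ti
  obtain ⟨B, T'⟩ := T.exists_dual
  obtain ⟨F, _, _, τ, ξ, γ, hcard, hτi, hξi, hτa, hξa, hτV, hξX, hγA, hτs, hξs, hγs, hγ0, hcomm⟩ :=
    T.exists_coord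
  set W : Subgroup G := V ⊔ X with hW
  set H : Subgroup G := Pn V ⊔ Pn X with hH
  let Ψ : (Fin 2 → F) → G := fun c => τ (c 0) * ξ (c 1)
  have hΨmem : ∀ c, Ψ c ∈ W := fun c => mul_mem_sup (hτV _) (hξX _)
  have hΨinj : Function.Injective Ψ := fun c d e => by
    obtain ⟨h1, h2⟩ := T.decomp_unique (hτV _) (hτV _) (hξX _) (hξX _) e
    ext i
    fin_cases i
    · exact hτi h1
    · exact hξi h2
  have hΨsurj : ∀ w ∈ W, ∃ c, Ψ c = w := fun w hw => by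
    obtain ⟨v, hv, x, hx, rfl⟩ := T.mem_W.1 hw
    obtain ⟨s, rfl⟩ := hτs v hv
    obtain ⟨t, rfl⟩ := hξs x hx
    exact ⟨![s, t], by simp [Ψ]⟩
  let R : G → Matrix.SpecialLinearGroup (Fin 2) F → Prop := fun m M =>
    ∀ c, m * Ψ c * m⁻¹ = Ψ ((M : Matrix (Fin 2) (Fin 2) F) *ᵥ c)
  have R1 : R 1 1 := fun c => by simp
  have Rmul : ∀ {m n M N}, R m M → R n N → R (m * n) (M * N) := fun {m n M N} hm hn c => by
    rw [Matrix.SpecialLinearGroup.coe_mul, ← Matrix.mulVec_mulVec, ← hm, ← hn]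
    group
  have Rinv : ∀ {m M}, R m M → R m⁻¹ M⁻¹ := fun {m M} hm c => by
    have h1 := hm (((M⁻¹ : Matrix.SpecialLinearGroup (Fin 2) F) : Matrix (Fin 2) (Fin 2) F) *ᵥ c)
    rw [Matrix.mulVec_mulVec, ← Matrix.SpecialLinearGroup.coe_mul, mul_inv_cancel,
      Matrix.SpecialLinearGroup.coe_one, Matrix.one_mulVec] at h1
    rw [← h1]; group
  have Runiq : ∀ {m M M'}, R m M → R m M' → M = M' := fun {m M M'} hm hm' =>
    Subtype.ext (Matrix.ext_iff_mulVec.2 fun c => hΨinj ((hm c).symm.trans (hm' c)))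
  -- upper unitriangular elements
  have hU : ∀ p ∈ Pn V, ∀ s, (∀ x ∈ X, ⁅p, x⁆ = ⁅γ s, x⁆) → R p (RootLib.uEl s) := by
    intro p hp s hps c
    have h1 : p * τ (c 0) * p⁻¹ = τ (c 0) := h.conj_comm hp (hτV _)
    have h2 : p * ξ (c 1) * p⁻¹ = τ (s * c 1) * ξ (c 1) := by
      rw [← hcomm, ← hps _ (hξX _), commutatorElement_def]; group
    have h3 : p * Ψ c * p⁻¹ = (p * τ (c 0) * p⁻¹) * (p * ξ (c 1) * p⁻¹) := by
      simp only [Ψ]; group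
    rw [h3, h1, h2, ← mul_assoc, ← hτa]
    simp [Ψ, Matrix.mulVec, dotProduct, Fin.sum_univ_two]
  have hPU : ∀ p ∈ Pn V, ∃ s, R p (RootLib.uEl s) := fun p hp => by
    obtain ⟨a, ha, hpa⟩ := T.comm_eq hp
    obtain ⟨s, rfl⟩ := hγs a ha
    exact ⟨s, hU p hp s hpa⟩
  -- lower unitriangular elements
  have hL : ∀ q ∈ Pn X, ∀ b ∈ B, (∀ v ∈ V, ⁅q, v⁆ = ⁅b, v⁆) → ∀ s, s ≠ 0 →
      cj b V = cj (γ s) X → R q (RootLib.lEl s⁻¹) := by
    intro q hq b hb hqb s hs hbs c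
    have key : ∀ r, ⁅q, τ r⁆ = ξ (s⁻¹ * r) := by
      intro r
      have h1 : b * τ r * b⁻¹ ∈ cj (γ s) X := hbs ▸ conj_mem_cj (hτV r)
      obtain ⟨x, hx, hxe⟩ := h1
      obtain ⟨t, rfl⟩ := hξs x hx
      have h2 : γ s * ξ t * (γ s)⁻¹ = ⁅b, τ r⁆ * τ r := hxe.trans (T'.conj_eq hb (hτV r))
      have hbX : ⁅b, τ r⁆ ∈ X := T'.ti.comm_mem (T'.memA hb) (T'.memX (hτV r))
      rw [T.conj_eq (hγA s) hx, hcomm, ← T.commVX (hτV r) hbX] at h2
      obtain ⟨h3, h4⟩ := T.decomp_unique (hτV _) (hτV _) hx hbX h2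
      rw [hqb _ (hτV r), ← h4, ← hτi h3, inv_mul_cancel_left₀ hs]
    have h1 : q * τ (c 0) * q⁻¹ = τ (c 0) * ξ (s⁻¹ * c 0) := by
      rw [T.commVX (hτV _) (hξX _), ← key, commutatorElement_def]; group
    have h2 : q * ξ (c 1) * q⁻¹ = ξ (c 1) := (h.conj T.pairX.1).conj_comm hq (hξX _)
    have h3 : q * Ψ c * q⁻¹ = (q * τ (c 0) * q⁻¹) * (q * ξ (c 1) * q⁻¹) := by
      simp only [Ψ]; group
    rw [h3, h1, h2, mul_assoc, ← hξa]
    simp [Ψ, Matrix.mulVec, dotProduct, Fin.sum_univ_two]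
  have hL0 : ∀ q ∈ Pn X, (∀ v ∈ V, ⁅q, v⁆ = 1) → R q (RootLib.lEl 0) := by
    intro q hq hqv c
    have h2 : q * ξ (c 1) * q⁻¹ = ξ (c 1) := (h.conj T.pairX.1).conj_comm hq (hξX _)
    have h1 : q * τ (c 0) * q⁻¹ = τ (c 0) := by
      calc q * τ (c 0) * q⁻¹ = ⁅q, τ (c 0)⁆ * τ (c 0) := by rw [commutatorElement_def]; group
        _ = _ := by rw [hqv _ (hτV _), one_mul]
    rw [RootLib.lEl_zero, Matrix.SpecialLinearGroup.coe_one, Matrix.one_mulVec]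
    calc q * Ψ c * q⁻¹ = (q * τ (c 0) * q⁻¹) * (q * ξ (c 1) * q⁻¹) := by simp only [Ψ]; group
      _ = Ψ c := by rw [h1, h2]
  have hline : ∀ b ∈ B, b ≠ 1 → ∃ s, s ≠ 0 ∧ cj b V = cj (γ s) X := by
    intro b hb hb1
    obtain ⟨a, ha, e⟩ := T.line (Z := cj b V) ⟨b, rfl⟩ ((T'.cj_le_W hb).trans (sup_comm X V).le)
      (T'.cj_ne_X hb hb1)
    obtain ⟨s, rfl⟩ := hγs a ha
    exact ⟨s, fun hs => T'.cj_ne_V hb (by rw [e, (hγ0 s).2 hs, cj_one]), e⟩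
  have hPL : ∀ q ∈ Pn X, ∃ t, R q (RootLib.lEl t) := fun q hq => by
    obtain ⟨b, hb, hqb⟩ := T'.comm_eq hq
    rcases eq_or_ne b 1 with hb1 | hb1
    · exact ⟨0, hL0 q hq fun v hv => by rw [hqb v hv, hb1, commutatorElement_one_left]⟩
    · obtain ⟨s, hs, e⟩ := hline b hb hb1
      exact ⟨_, hL q hq b hb hqb s hs e⟩
  have hallU : ∀ s, ∃ m ∈ H, R m (RootLib.uEl s) := fun s =>
    ⟨γ s, mem_sup_left (T.memA (hγA s)), hU _ (T.memA (hγA s)) s fun _ _ => rfl⟩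
  have hallL : ∀ t, ∃ m ∈ H, R m (RootLib.lEl t) := by
    intro t
    rcases eq_or_ne t 0 with rfl | ht
    · exact ⟨1, one_mem _, by rw [RootLib.lEl_zero]; exact R1⟩
    have hne1 : γ t⁻¹ ≠ 1 := fun e => inv_ne_zero ht ((hγ0 _).1 e)
    obtain ⟨b, hb, e⟩ := T'.line (T.pairX.1.symm.trans (T.pairX.1.cj_right (γ t⁻¹)))
      ((T.cj_le_W (hγA _)).trans (sup_comm V X).le) (T.cj_ne_X (hγA _) hne1)
    refine ⟨b, mem_sup_right (T'.memA hb), ?_⟩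
    have := hL b (T'.memA hb) b hb (fun _ _ => rfl) t⁻¹ (inv_ne_zero ht) e.symm
    rwa [inv_inv] at this
  let S1 : Subgroup G :=
    { carrier := {m | ∃ M, R m M}
      one_mem' := ⟨1, R1⟩
      mul_mem' := fun ⟨M, hM⟩ ⟨N, hN⟩ => ⟨M * N, Rmul hM hN⟩
      inv_mem' := fun ⟨M, hM⟩ => ⟨M⁻¹, Rinv hM⟩ }
  let S2 : Subgroup (Matrix.SpecialLinearGroup (Fin 2) F) :=
    { carrier := {M | ∃ m ∈ H, R m M}
      one_mem' := ⟨1, one_mem _, R1⟩
      mul_mem' := fun ⟨m, hm, hM⟩ ⟨n, hn, hN⟩ => ⟨m * n, mul_mem hm hn, Rmul hM hN⟩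
      inv_mem' := fun ⟨m, hm, hM⟩ => ⟨m⁻¹, inv_mem hm, Rinv hM⟩ }
  have hHS : H ≤ S1 := sup_le (fun p hp => ⟨_, (hPU p hp).choose_spec⟩)
    fun q hq => ⟨_, (hPL q hq).choose_spec⟩
  have hS2 : S2 = ⊤ := top_le_iff.1 (RootLib.sl_two_sup.symm.le.trans (sup_le
    (fun M hM => by obtain ⟨t, rfl⟩ := RootLib.mem_lower.1 hM; exact hallL t)
    (fun M hM => by obtain ⟨t, rfl⟩ := RootLib.mem_upper.1 hM; exact hallU t)))
  have hN : H ≤ normalizer (W : Set G) := fun m hm => by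
    obtain ⟨M, hM⟩ := hHS hm
    refine mem_normalizer_of_cj (Subgroup.eq_of_le_of_card_ge ?_ (card_cj m W).ge)
    rintro _ ⟨w, hw, rfl⟩
    obtain ⟨c, rfl⟩ := hΨsurj w hw
    show m * Ψ c * m⁻¹ ∈ W
    rw [hM c]
    exact hΨmem _
  refine ⟨hN, F, inferInstance, inferInstance, hcard, fun hNorm => ?_, ?_⟩
  · choose φ hφ using fun m : H => hHS m.2
    let Φ : H →* Matrix.SpecialLinearGroup (Fin 2) F :=
      MonoidHom.mk' φ fun m n => Runiq (hφ (m * n)) (Rmul (hφ m) (hφ n))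
    have hsurj : Function.Surjective Φ := fun M => by
      obtain ⟨m, hm, hM⟩ := (hS2.ge trivial : M ∈ S2)
      exact ⟨⟨m, hm⟩, Runiq (hφ ⟨m, hm⟩) hM⟩
    have hker : (centralizer (W : Set G)).subgroupOf H = Φ.ker := by
      ext m
      rw [mem_subgroupOf, MonoidHom.mem_ker, mem_centralizer_iff]
      constructor
      · intro hm
        refine Runiq (hφ m) fun c => ?_
        rw [Matrix.SpecialLinearGroup.coe_one, Matrix.one_mulVec, ← hm _ (hΨmem c),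
          mul_inv_cancel_right]
      · intro hm w hw
        obtain ⟨c, rfl⟩ := hΨsurj w hw
        have h1 := hφ m c
        rw [show φ m = 1 from hm, Matrix.SpecialLinearGroup.coe_one, Matrix.one_mulVec,
          mul_inv_eq_iff_eq_mul] at h1
        exact h1.symm
    exact ⟨(QuotientGroup.quotientMulEquivOfEq hker).trans
      (QuotientGroup.quotientKerEquivOfSurjective Φ hsurj)⟩
  · intro v₁ hv₁ v₂ hv₂ h1 h2
    obtain ⟨r₁, rfl⟩ := hτs v₁ hv₁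
    obtain ⟨r₂, rfl⟩ := hτs v₂ hv₂
    have hτ0 : τ 0 = 1 := by
      have := hτa 0 0; rwa [add_zero, left_eq_mul] at this
    have hξ0 : ξ 0 = 1 := by
      have := hξa 0 0; rwa [add_zero, left_eq_mul] at this
    have hr₁ : r₁ ≠ 0 := fun e => h1 (e ▸ hτ0)
    have hr₂ : r₂ ≠ 0 := fun e => h2 (e ▸ hτ0)
    set c := r₂ * r₁⁻¹ with hc
    have hc0 : c ≠ 0 := mul_ne_zero hr₂ (inv_ne_zero hr₁)
    obtain ⟨m, -, hm⟩ := (hS2.ge trivial :
      (⟨!![c, 0; 0, c⁻¹], by simp [Matrix.det_fin_two_of, hc0]⟩ :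
        Matrix.SpecialLinearGroup (Fin 2) F) ∈ S2)
    have key : ∀ r, m * τ r * m⁻¹ = τ (c * r) := fun r => by
      have := hm ![r, 0]
      simpa [Ψ, Matrix.mulVec, dotProduct, Fin.sum_univ_two, hξ0, mul_comm] using this
    refine ⟨m, mem_normalizer_of_cj (Subgroup.eq_of_le_of_card_ge ?_ (card_cj m V).ge), ?_⟩
    · rintro _ ⟨v, hv, rfl⟩
      obtain ⟨r, rfl⟩ := hτs v hv
      show m * τ r * m⁻¹ ∈ V
      rw [key]
      exact hτV _
    · rw [key, hc, inv_mul_cancel_right₀ hr₁]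

theorem Pn_eq_Qn {g : G} (hg : X = cj g V) : Pn V = Qn V := by
  classical
  have h := T.ti
  obtain ⟨-, F, _, _, -, -, htrans⟩ := T.sl_two_action hg
  refine le_antisymm inf_le_left fun q hq => ⟨hq, ?_⟩
  obtain ⟨x₀, hx₀, hx₀1⟩ := T.nontrivial
  obtain ⟨a₀, ha₀, ha₀1⟩ := T.symm.nontrivial
  haveI : (V.subgroupOf (Qn V)).Normal := ⟨fun v hv p => by
    rw [mem_subgroupOf] at hv ⊢
    exact (mem_normalizer_iff.1 (Qn_le_normalizer p.2) _).1 hv⟩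
  obtain ⟨z, hzV, hz1, hzc⟩ := Cfsg.Agent.FGS.SectionalRankFour.exists_central isPGroup_Qn
    (V.subgroupOf (Qn V)) (by
      intro e
      have h1 : (⟨⁅a₀, x₀⁆, h.le_Qn (h.comm_mem (T.memA ha₀) (T.memX hx₀))⟩ : Qn V) ∈
          V.subgroupOf (Qn V) := h.comm_mem (T.memA ha₀) (T.memX hx₀)
      rw [e, mem_bot] at h1
      exact T.nc a₀ ha₀ ha₀1 x₀ hx₀ hx₀1 (congrArg Subtype.val h1))
  refine mem_centralizer_iff.2 fun v hv => ?_
  rcases eq_or_ne v 1 with rfl | hv1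
  · rw [one_mul, mul_one]
  obtain ⟨m, hm, hmz⟩ := htrans (z : G) hzV v hv (fun e => hz1 (Subtype.ext e)) hv1
  have hq' : m⁻¹ * q * m ∈ Qn V := by simpa using Qn_conj (inv_mem hm) hq
  have h1 : m⁻¹ * q * m * z = z * (m⁻¹ * q * m) :=
    congrArg Subtype.val (mem_center_iff.1 hzc ⟨_, hq'⟩)
  rw [← hmz]
  calc m * z * m⁻¹ * q = m * (z * (m⁻¹ * q * m)) * m⁻¹ := by group
    _ = m * (m⁻¹ * q * m * z) * m⁻¹ := by rw [h1]
    _ = q * (m * z * m⁻¹) := by group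

theorem frattini_center_commutator {g : G} (hg : X = cj g V) :
    (frattini ↥(Qn V)).map (Qn V).subtype = V ∧ (center ↥(Qn V)).map (Qn V).subtype = V ∧
      (commutator ↥(Qn V)).map (Qn V).subtype = V := by
  classical
  have h := T.ti
  haveI : Fact (Nat.Prime 2) := ⟨Nat.prime_two⟩
  have hPQ := T.Pn_eq_Qn hg
  obtain ⟨a₀, ha₀, ha₀1⟩ := T.symm.nontrivial
  have hle : ⁅Qn V, Qn V⁆ ≤ V := Subgroup.commutator_le.2 fun x hx y hy =>
    h.comm_mem (hPQ.ge hx) (hPQ.ge hy)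
  have hge : V ≤ (commutator ↥(Qn V)).map (Qn V).subtype := fun v hv => by
    rw [map_subtype_commutator]
    obtain ⟨x, hx, rfl⟩ := T.surj ha₀ ha₀1 hv
    exact Subgroup.commutator_mem_commutator (hPQ.le (T.memA ha₀)) (hPQ.le (T.memX hx))
  haveI : Group.IsNilpotent ↥(Qn V) := isPGroup_Qn.isNilpotent
  refine ⟨le_antisymm (Cfsg.Agent.LocalEvenA.map_frattini_le_of (p := 2) hle fun x hx => ?_)
    (hge.trans (map_mono Cfsg.Agent.Basics.commutator_le_frattini)), ?_,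
    le_antisymm ((map_subtype_commutator _).le.trans hle) hge⟩
  · rw [pow_two]; exact h.class_two.2 x (hPQ.ge hx)
  · refine le_antisymm ?_ fun v hv => ?_
    · rintro _ ⟨z, hz, rfl⟩
      exact h.center_Pn (hPQ.ge z.2) fun p hp =>
        (congrArg Subtype.val (mem_center_iff.1 hz ⟨p, hPQ.le hp⟩)).symm
    · exact ⟨⟨v, h.le_Qn hv⟩, mem_center_iff.2 fun p => Subtype.ext
        (Pn_comm (hPQ.ge p.2) hv).symm, rfl⟩

end Triple

end Cfsg.Agent.TILarge23
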