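import Cfsg.Agent.Lib.TILarge23.Basic

/-!
Pairs of noncommuting conjugates of `V` in `C_{O₂(N(V))}(V)` and the symmetry `V ≤ O₂(N(V'))`.
-/

set_option autoImplicit false
set_option linter.unusedSectionVars false

namespace Cfsg.Agent.TILarge23

open Subgroup
open scoped commutatorElement

variable {G : Type*} [Group G] [Finite G] {V X A : Subgroup G}

theorem Pair.ne_one {a : G} (h : TI V) (hA : Pair V A) (ha : a ∈ A) (ha1 : a ≠ 1) : a ∉ V := fun hv =>
  ha1 (h.eq_one_of_mem hA.1 (Conj.refl V) hA.2.1 ha hv)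

section

variable (h : TI V)
include h

theorem TI.conj_comm {p v : G} (hp : p ∈ Pn V) (hv : v ∈ V) : p * v * p⁻¹ = v := by
  rw [← Pn_comm hp hv, mul_inv_cancel_right]

theorem TI.cj_fix {p : G} (hp : p ∈ Pn V) : cj p V = V :=
  cj_of_mem_normalizer (Pn_le_normalizer hp)

theorem TI.comm_mem {x y : G} (hx : x ∈ Pn V) (hy : y ∈ Pn V) : ⁅x, y⁆ ∈ V := h.class_two.1 x hx y hy

theorem TI.comm_mul_left {x y z : G} (hx : x ∈ Pn V) (hy : y ∈ Pn V) (hz : z ∈ Pn V) :
    ⁅x * y, z⁆ = ⁅x, z⁆ * ⁅y, z⁆ := by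
  rw [show ⁅x * y, z⁆ = x * ⁅y, z⁆ * x⁻¹ * ⁅x, z⁆ by simp [commutatorElement_def, mul_assoc],
    h.conj_comm hx (h.comm_mem hy hz), h.comm (h.comm_mem hy hz) (h.comm_mem hx hz)]

theorem TI.comm_swap {x y : G} (hx : x ∈ Pn V) (hy : y ∈ Pn V) : ⁅y, x⁆ = ⁅x, y⁆ := by
  rw [← commutatorElement_inv x y, h.inv_eq (h.comm_mem hx hy)]

theorem TI.comm_mul_right {x y z : G} (hx : x ∈ Pn V) (hy : y ∈ Pn V) (hz : z ∈ Pn V) :
    ⁅x, y * z⁆ = ⁅x, y⁆ * ⁅x, z⁆ := by
  rw [h.comm_swap (mul_mem hy hz) hx, h.comm_mul_left hy hz hx, h.comm_swap hx hy, h.comm_swap hx hz]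

/-- One commuting pair of nontrivial elements makes an element of `Pn V` centralise the conjugate. -/
theorem TI.centralizes (hX : Pair V X) {p x : G} (hp : p ∈ Pn V) (hx : x ∈ X) (hx1 : x ≠ 1)
    (he : ⁅p, x⁆ = 1) : p ∈ centralizer (X : Set G) := by
  have hN := h.mem_normalizer_of_commute hX.1 hx hx1 (commutatorElement_eq_one_iff_mul_comm.1 he)
  refine mem_centralizer_iff.2 fun y hy => (commutatorElement_eq_one_iff_mul_comm.1 ?_).symm
  refine h.eq_one_of_mem hX.1 (Conj.refl V) hX.2.1 ?_ (h.comm_mem hp (h.pair_le_Pn hX hy))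
  rw [commutatorElement_def]
  exact mul_mem ((mem_normalizer_iff.1 hN y).1 hy) (inv_mem hy)

end

/-- Two conjugates of `V` in `O₂(N(V))` with no commuting nontrivial elements. -/
structure Triple (V X A : Subgroup G) : Prop where
  ti : TI V
  pairX : Pair V X
  pairA : Pair V A
  nc : ∀ a ∈ A, a ≠ 1 → ∀ x ∈ X, x ≠ 1 → ⁅a, x⁆ ≠ 1

theorem exists_triple (h : TI V) (hX : Pair V X) : ∃ A, Triple V X A := by
  classical
  have hne : ∃ A, Pair V A ∧ ∃ a ∈ A, ∃ x ∈ X, ⁅a, x⁆ ≠ 1 := by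
    by_contra hh
    push Not at hh
    set S : Set G := {y | ∃ m ∈ normalizer (V : Set G), y ∈ cj m X}
    set E := V ⊔ Subgroup.closure S
    have hpair : ∀ m ∈ normalizer (V : Set G), Pair V (cj m X) := fun m hm =>
      ⟨hX.1.cj_right m, fun e => hX.2.1 (cj_injective m (e.trans (cj_of_mem_normalizer hm).symm)),
        fun y hy => by
          have := cj_Qn m V
          rw [cj_of_mem_normalizer hm] at this
          rw [← this]; exact cj_mono m hX.2.2 hy⟩
    have hS : S ⊆ (Pn V : Set G) := fun y ⟨m, hm, hy⟩ => h.pair_le_Pn (hpair m hm) hy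
    have hEP : E ≤ Pn V := sup_le h.le_Pn ((closure_le _).2 hS)
    have hEN : ∀ m ∈ normalizer (V : Set G), ∀ a ∈ E, m * a * m⁻¹ ∈ E := by
      intro m hm
      have : E ≤ E.comap (MulAut.conj m).toMonoidHom := by
        refine sup_le (fun v hv => mem_comap.2 (mem_sup_left ?_)) ((closure_le _).2 ?_)
        · exact (mem_normalizer_iff.1 hm v).1 hv
        · rintro y ⟨n, hn, hy⟩
          refine mem_sup_right (subset_closure ⟨m * n, mul_mem hm hn, ?_⟩)
          rw [← cj_cj]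
          exact conj_mem_cj hy
      exact fun a ha => this ha
    have hEc : ∀ a ∈ E, ∀ b ∈ E, a * b = b * a := by
      have h0 : ∀ s ∈ S, ∀ t ∈ S, s * t = t * s := by
        rintro s ⟨m, hm, hs⟩ t ⟨n, hn, ht⟩
        have := hh (cj (n⁻¹ * m) X) (hpair _ (mul_mem (inv_mem hn) hm)) (n⁻¹ * s * n)
          (by rw [mem_cj] at hs ⊢; simpa [mul_assoc] using hs) (n⁻¹ * t * n) (mem_cj.1 ht)
        have e := commutatorElement_eq_one_iff_mul_comm.1 this
        calc s * t = n * (n⁻¹ * s * n * (n⁻¹ * t * n)) * n⁻¹ := by group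
          _ = n * (n⁻¹ * t * n * (n⁻¹ * s * n)) * n⁻¹ := by rw [e]
          _ = t * s := by group
      have h1 : E ≤ centralizer S := sup_le
        (fun v hv => mem_centralizer_iff.2 fun s hs => (Pn_comm (hS hs) hv).symm)
        ((closure_le _).2 fun s hs => mem_centralizer_iff.2 fun t ht => h0 t ht s hs)
      intro a ha
      have h2 : E ≤ centralizer ({a} : Set G) := sup_le
        (fun v hv => mem_centralizer_iff.2 fun w hw => by
          rw [Set.mem_singleton_iff.1 hw]; exact (Pn_comm (hEP ha) hv).symm)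
        ((closure_le _).2 fun s hs => mem_centralizer_iff.2 fun w hw => by
          rw [Set.mem_singleton_iff.1 hw]; exact (mem_centralizer_iff.1 (h1 ha) s hs).symm)
      exact fun b hb => mem_centralizer_iff.1 (h2 hb) a rfl
    have hEV := h.maxab E le_sup_left (hEP.trans Pn_le_normalizer)
      ⟨⟨fun a b => Subtype.ext (hEc a a.2 b b.2)⟩⟩ hEN
    refine hX.2.1 (Subgroup.eq_of_le_of_card_ge ?_ hX.1.card.ge)
    rw [← hEV]
    exact fun x hx => mem_sup_right (subset_closure ⟨1, one_mem _, by rw [cj_one]; exact hx⟩)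
  obtain ⟨A, hA, a₁, ha₁, x₁, hx₁, hne⟩ := hne
  refine ⟨A, h, hX, hA, fun a ha ha1 x hx hx1 he => hne ?_⟩
  have h1 := h.centralizes hX (h.pair_le_Pn hA ha) hx hx1 he
  have h2 : ⁅x₁, a⁆ = 1 := commutatorElement_eq_one_iff_mul_comm.2 (mem_centralizer_iff.1 h1 x₁ hx₁)
  have h3 := h.centralizes hA (h.pair_le_Pn hX hx₁) ha ha1 h2
  exact commutatorElement_eq_one_iff_mul_comm.2 (mem_centralizer_iff.1 h3 a₁ ha₁)

namespace Triple

variable (T : Triple V X A)
include T

theorem symm : Triple V A X :=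
  ⟨T.ti, T.pairA, T.pairX, fun x hx hx1 a ha ha1 => by
    rw [T.ti.comm_swap (T.ti.pair_le_Pn T.pairA ha) (T.ti.pair_le_Pn T.pairX hx)]
    exact T.nc a ha ha1 x hx hx1⟩

theorem memA {a : G} (ha : a ∈ A) : a ∈ Pn V := T.ti.pair_le_Pn T.pairA ha

theorem memX {x : G} (hx : x ∈ X) : x ∈ Pn V := T.ti.pair_le_Pn T.pairX hx

theorem nontrivial : ∃ x ∈ X, x ≠ 1 := by
  by_contra hh
  push Not at hh
  have hX : X = ⊥ := eq_bot_iff.2 fun x hx => mem_bot.2 (hh x hx)
  apply T.pairX.2.1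
  have := T.pairX.1.card
  rw [hX, Subgroup.card_bot] at this
  rw [hX, Subgroup.card_eq_one.1 this.symm]

theorem injOn {a : G} (ha : a ∈ A) (ha1 : a ≠ 1) {x y : G} (hx : x ∈ X) (hy : y ∈ X)
    (he : ⁅a, x⁆ = ⁅a, y⁆) : x = y := by
  by_contra hne
  refine T.nc a ha ha1 (x * y) (mul_mem hx hy) (fun e => hne ?_) ?_
  · rw [← (T.ti.conj T.pairX.1).inv_eq hy]; exact eq_inv_of_mul_eq_one_left e
  · rw [T.ti.comm_mul_right (T.memA ha) (T.memX hx) (T.memX hy), he,
      T.ti.sq (T.ti.comm_mem (T.memA ha) (T.memX hy))]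

theorem surj {a : G} (ha : a ∈ A) (ha1 : a ≠ 1) {v : G} (hv : v ∈ V) : ∃ x ∈ X, ⁅a, x⁆ = v := by
  have hb := (Function.Injective.bijective_of_nat_card_le
    (f := fun x : X => (⟨⁅a, (x : G)⁆, T.ti.comm_mem (T.memA ha) (T.memX x.2)⟩ : V))
    (fun x y e => Subtype.ext (T.injOn ha ha1 x.2 y.2 (congrArg Subtype.val e)))
    T.pairX.1.card.ge).2 ⟨v, hv⟩
  obtain ⟨x, hx⟩ := hb
  exact ⟨x, x.2, congrArg Subtype.val hx⟩

theorem surjA {x : G} (hx : x ∈ X) (hx1 : x ≠ 1) {v : G} (hv : v ∈ V) : ∃ a ∈ A, ⁅a, x⁆ = v := by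
  obtain ⟨a, ha, e⟩ := T.symm.surj hx hx1 hv
  exact ⟨a, ha, by rw [T.ti.comm_swap (T.memX hx) (T.memA ha), e]⟩

theorem decomp {p : G} (hp : p ∈ Pn V) : ∃ a ∈ A, a * p ∈ centralizer (X : Set G) := by
  obtain ⟨x, hx, hx1⟩ := T.nontrivial
  obtain ⟨a, ha, e⟩ := T.surjA hx hx1 (T.ti.comm_mem hp (T.memX hx))
  refine ⟨a, ha, T.ti.centralizes T.pairX (mul_mem (T.memA ha) hp) hx hx1 ?_⟩
  rw [T.ti.comm_mul_left (T.memA ha) hp (T.memX hx), e, T.ti.sq (T.ti.comm_mem hp (T.memX hx))]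

theorem comm_eq {p : G} (hp : p ∈ Pn V) : ∃ a ∈ A, ∀ x ∈ X, ⁅p, x⁆ = ⁅a, x⁆ := by
  obtain ⟨a, ha, hc⟩ := T.decomp hp
  refine ⟨a, ha, fun x hx => ?_⟩
  have h1 : ⁅a, x⁆ * ⁅p, x⁆ = 1 := by
    rw [← T.ti.comm_mul_left (T.memA ha) hp (T.memX hx)]
    exact commutatorElement_eq_one_iff_mul_comm.2 (mem_centralizer_iff.1 hc x hx).symm
  rw [← T.ti.inv_eq (T.ti.comm_mem (T.memA ha) (T.memX hx))]
  exact eq_inv_of_mul_eq_one_right h1

theorem double_centralizer {d : G} (hd : d ∈ Pn V)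
    (hc : ∀ c ∈ Pn V, c ∈ centralizer (X : Set G) → ⁅d, c⁆ = 1) :
    ∃ v ∈ V, ∃ x ∈ X, d = v * x := by
  obtain ⟨a, ha, ha1⟩ := T.symm.nontrivial
  obtain ⟨x, hx, e⟩ := T.surj ha ha1 (T.ti.comm_mem (T.memA ha) hd)
  have hdx : d * x ∈ Pn V := mul_mem hd (T.memX hx)
  have h0 : ⁅d * x, a⁆ = 1 := by
    rw [T.ti.comm_swap (T.memA ha) hdx, T.ti.comm_mul_right (T.memA ha) hd (T.memX hx), e,
      T.ti.sq (T.ti.comm_mem (T.memA ha) hd)]
  have hA := T.ti.centralizes T.pairA hdx ha ha1 h0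
  have hV : d * x ∈ V := T.ti.center_Pn hdx fun p hp => by
    obtain ⟨b, hb, hb'⟩ := T.decomp hp
    refine commutatorElement_eq_one_iff_mul_comm.1 ?_
    have e1 : p = b * (b * p) := by
      rw [← mul_assoc, (T.ti.conj T.pairA.1).sq hb, one_mul]
    have hbp : b * p ∈ Pn V := mul_mem (T.memA hb) hp
    rw [e1, T.ti.comm_mul_right hdx (T.memA hb) hbp, T.ti.comm_mul_left hd (T.memX hx) hbp,
      hc _ hbp hb', commutatorElement_eq_one_iff_mul_comm.2 (mem_centralizer_iff.1 hb' x hx),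
      commutatorElement_eq_one_iff_mul_comm.2 (mem_centralizer_iff.1 hA b hb).symm, one_mul, one_mul]
  refine ⟨d * x, hV, x, hx, ?_⟩
  rw [mul_assoc, (T.ti.conj T.pairX.1).sq hx, mul_one]

theorem conj_eq {a x : G} (ha : a ∈ A) (hx : x ∈ X) : a * x * a⁻¹ = ⁅a, x⁆ * x := by
  rw [commutatorElement_def]; group

/-- The symmetry of the relation `X ≤ O₂(N(V))`. -/
theorem symmetry : V ≤ Qn X := by
  classical
  have h := T.ti
  haveI : Fact (Nat.Prime 2) := ⟨Nat.prime_two⟩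
  have hXc : ∀ {x v : G}, x ∈ X → v ∈ V → v * x = x * v := fun hx hv => Pn_comm (T.memX hx) hv
  set K := centralizer (V : Set G) ⊓ centralizer (X : Set G) with hK
  set C := Pn V ⊓ centralizer (X : Set G) with hC
  have hCK : C ≤ K := le_inf (inf_le_left.trans inf_le_right) inf_le_right
  obtain ⟨S, ⟨hCS, hSK, hS2⟩, hmax⟩ := Set.Finite.exists_maximal
    (Set.toFinite {S : Subgroup G | C ≤ S ∧ S ≤ K ∧ IsPGroup 2 S})
    ⟨C, le_rfl, hCK, Pn_isPGroup.to_le inf_le_left⟩
  obtain ⟨a₀, ha₀, ha₀1⟩ := T.symm.nontrivial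
  obtain ⟨g, hg⟩ := T.pairX.1
  have hPS : Pn V ≤ normalizer (S : Set G) := by
    have key : ∀ p ∈ Pn V, ∀ s ∈ S, p * s * p⁻¹ ∈ S := by
      intro p hp s hs
      have hs' := hSK hs
      have hsV : ∀ v ∈ V, v * s = s * v := fun v hv => mem_centralizer_iff.1 hs'.1 v hv
      have hsX : ∀ x ∈ X, x * s = s * x := fun x hx => mem_centralizer_iff.1 hs'.2 x hx
      have hsN : s ∈ normalizer (V : Set G) := centralizer_le_normalizer _ hs'.1
      have hmem : ⁅p, s⁆ ∈ C := by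
        refine ⟨?_, mem_centralizer_iff.2 fun x hx => ?_⟩
        · rw [commutatorElement_def, mul_assoc p, mul_assoc p]
          exact mul_mem hp (Pn_conj hsN (inv_mem hp))
        · have hpi := inv_mem hp
          have hv := h.comm_mem hpi (T.memX hx)
          have h1 : s * (p⁻¹ * x * p) = p⁻¹ * x * p * s := by
            rw [show p⁻¹ * x * p = ⁅p⁻¹, x⁆ * x by simp [commutatorElement_def, mul_assoc],
              ← mul_assoc, ← hsV _ hv, mul_assoc, ← hsX x hx, ← mul_assoc]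
          have h2 := hsX x hx
          rw [commutatorElement_def]
          calc x * (p * s * p⁻¹ * s⁻¹) = p * (p⁻¹ * x * p * s) * p⁻¹ * s⁻¹ := by group
            _ = p * (s * (p⁻¹ * x * p)) * p⁻¹ * s⁻¹ := by rw [h1]
            _ = p * s * p⁻¹ * (x * s⁻¹) := by group
            _ = p * s * p⁻¹ * (s⁻¹ * (s * x) * s⁻¹) := by group
            _ = p * s * p⁻¹ * (s⁻¹ * (x * s) * s⁻¹) := by rw [h2]
            _ = p * s * p⁻¹ * s⁻¹ * x := by group
      have : p * s * p⁻¹ = ⁅p, s⁆ * s := by rw [commutatorElement_def]; group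
      rw [this]
      exact mul_mem (hCS hmem) hs
    exact fun p hp => mem_normalizer_of_cj (Subgroup.eq_of_le_of_card_ge
      (fun y hy => by
        have := key p hp _ (mem_cj.1 hy)
        simpa [mul_assoc] using this) (card_cj p S).ge)
  set P' := S ⊔ Pn V
  have hP'2 : IsPGroup 2 P' := hS2.to_sup_of_normal_left' Pn_isPGroup hPS
  have hP'C : P' ≤ centralizer (V : Set G) := sup_le (hSK.trans inf_le_left) inf_le_right
  have hSlt : Nat.card S < Nat.card P' := by
    refine lt_of_le_of_ne (Subgroup.card_le_of_le le_sup_left) fun e => ?_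
    have heq : S = P' := Subgroup.eq_of_le_of_card_ge le_sup_left e.ge
    have : a₀ ∈ S := heq ▸ mem_sup_right (T.memA ha₀)
    obtain ⟨x, hx, hx1⟩ := T.nontrivial
    exact T.nc a₀ ha₀ ha₀1 x hx hx1
      (commutatorElement_eq_one_iff_mul_comm.2 (mem_centralizer_iff.1 (hSK this).2 x hx).symm)
  have hgC : cj g P' ≤ centralizer (X : Set G) := by
    rw [hg, ← cj_centralizer]; exact cj_mono g hP'C
  set H := centralizer (X : Set G)
  have hSH : S ≤ H := hSK.trans inf_le_right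
  obtain ⟨R, hR⟩ := IsPGroup.exists_le_sylow
    (hS2.of_equiv (Subgroup.subgroupOfEquivOfLe hSH).symm)
  obtain ⟨R', hR'⟩ := IsPGroup.exists_le_sylow
    ((hP'2.map (MulAut.conj g).toMonoidHom).of_equiv (Subgroup.subgroupOfEquivOfLe hgC).symm)
  have hlt : S.subgroupOf H < (R : Subgroup H) := by
    refine lt_of_le_of_ne hR fun e => ?_
    have h1 := Subgroup.card_le_of_le hR'
    rw [Nat.card_congr (Subgroup.subgroupOfEquivOfLe hgC).toEquiv, card_cj,
      Sylow.card_eq_multiplicity, ← Sylow.card_eq_multiplicity R, ← e,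
      Nat.card_congr (Subgroup.subgroupOfEquivOfLe hSH).toEquiv] at h1
    omega
  have hRnc : ∃ y : H, y ∈ (R : Subgroup H) ∧ y ∈ normalizer (S.subgroupOf H : Set H) ∧
      y ∉ S.subgroupOf H := by
    haveI := R.2.isNilpotent
    have h1 : (S.subgroupOf H).subgroupOf (R : Subgroup H) < ⊤ :=
      lt_top_iff_ne_top.2 fun e => hlt.not_ge (Subgroup.subgroupOf_eq_top.1 e)
    obtain ⟨r, hr, hrn⟩ := SetLike.exists_of_lt (normalizerCondition_of_isNilpotent _ h1)
    refine ⟨r, r.2, ?_, fun e => hrn e⟩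
    rw [mem_normalizer_iff]
    intro n
    constructor
    · intro hn
      have := (mem_normalizer_iff.1 hr ⟨n, hR hn⟩).1 hn
      exact this
    · intro hn
      have hnR : n ∈ (R : Subgroup H) := by
        have := mul_mem (mul_mem (inv_mem r.2) (hR hn)) r.2
        simpa [mul_assoc] using this
      exact (mem_normalizer_iff.1 hr ⟨n, hnR⟩).2 hn
  obtain ⟨y₀, hy₀R, hy₀N, hy₀S⟩ := hRnc
  -- a square root of an element of `S`
  obtain ⟨y, hyR, hyN, hyS, hy2⟩ : ∃ y : H, y ∈ (R : Subgroup H) ∧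
      y ∈ normalizer (S.subgroupOf H : Set H) ∧ y ∉ S.subgroupOf H ∧ y * y ∈ S.subgroupOf H := by
    obtain ⟨n, hn⟩ := R.2 ⟨y₀, hy₀R⟩
    have hn' : y₀ ^ 2 ^ n = 1 := congrArg Subtype.val hn
    have hex : ∃ k, y₀ ^ 2 ^ k ∈ S.subgroupOf H := ⟨n, by rw [hn']; exact one_mem _⟩
    have h0 : Nat.find hex ≠ 0 := fun e => hy₀S (by simpa [e] using Nat.find_spec hex)
    refine ⟨y₀ ^ 2 ^ (Nat.find hex - 1), pow_mem hy₀R _, pow_mem hy₀N _,
      Nat.find_min hex (by omega), ?_⟩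
    rw [← pow_add, ← two_mul, ← pow_succ', show Nat.find hex - 1 + 1 = Nat.find hex by omega]
    exact Nat.find_spec hex
  obtain ⟨y, hyH⟩ := y
  have hy2S : y * y ∈ S := hy2
  have hynotS : y ∉ S := hyS
  have hyfix : ∀ x ∈ X, y * x * y⁻¹ = x := fun x hx => by
    rw [← mem_centralizer_iff.1 hyH x hx, mul_inv_cancel_right]
  have hyS' : ∀ s ∈ S, y * s * y⁻¹ ∈ S := fun s hs =>
    ((mem_normalizer_iff.1 hyN ⟨s, hSH hs⟩).1 hs)
  have hyS'' : ∀ s ∈ S, y⁻¹ * s * y ∈ S := fun s hs => by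
    have := ((mem_normalizer_iff.1 (inv_mem hyN) ⟨s, hSH hs⟩).1 hs)
    simpa [mem_subgroupOf] using this
  have hy2V : ∀ v ∈ V, y * y * v = v * (y * y) := fun v hv =>
    (mem_centralizer_iff.1 (hSK hy2S).1 v hv).symm
  have hVS : V ≤ S := fun v hv => hCS ⟨h.le_Pn hv,
    mem_centralizer_iff.2 fun x hx => (hXc hx hv).symm⟩
  have hyNV : y ∉ normalizer (V : Set G) := by
    intro hyV
    have hcent : y ∈ centralizer (V : Set G) := by
      rw [mem_centralizer_iff]
      by_contra hh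
      push Not at hh
      obtain ⟨v₁, hv₁, hne⟩ := hh
      have hv₁y : y * v₁ * y⁻¹ ∈ V := (mem_normalizer_iff.1 hyV _).1 hv₁
      set v₀ := v₁ * (y * v₁ * y⁻¹) with hv₀
      have hv₀V : v₀ ∈ V := mul_mem hv₁ hv₁y
      have hv₀1 : v₀ ≠ 1 := fun e => hne (by
        have := eq_inv_of_mul_eq_one_left e
        rw [h.inv_eq hv₁y] at this
        conv_lhs => rw [this]
        group)
      have hv₀f : y * v₀ * y⁻¹ = v₀ := by
        have e1 : y * (y * v₁ * y⁻¹) * y⁻¹ = v₁ := by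
          calc y * (y * v₁ * y⁻¹) * y⁻¹ = y * y * v₁ * (y * y)⁻¹ := by group
            _ = v₁ := by rw [hy2V v₁ hv₁, mul_inv_cancel_right]
        calc y * v₀ * y⁻¹ = y * v₁ * y⁻¹ * (y * (y * v₁ * y⁻¹) * y⁻¹) := by rw [hv₀]; group
          _ = v₀ := by rw [e1, hv₀, h.comm hv₁y hv₁]
      obtain ⟨x, hx, e⟩ := T.surj ha₀ ha₀1 hv₀V
      have hx1 : x ≠ 1 := fun e1 => hv₀1 (by rw [← e, e1]; simp [commutatorElement_def])
      have haP := T.memA ha₀
      have haP' : y * a₀ * y⁻¹ ∈ Pn V := Pn_conj hyV haP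
      have hconj : ∀ z ∈ X, ⁅y * a₀ * y⁻¹, z⁆ = y * ⁅a₀, z⁆ * y⁻¹ := fun z hz => by
        conv_lhs => rw [← hyfix z hz]
        rw [commutatorElement_def, commutatorElement_def]; group
      have hq : a₀ * (y * a₀ * y⁻¹) ∈ centralizer (X : Set G) := by
        refine h.centralizes T.pairX (mul_mem haP haP') hx hx1 ?_
        rw [h.comm_mul_left haP haP' (T.memX hx), hconj x hx, e, hv₀f, h.sq hv₀V]
      obtain ⟨z, hz, ez⟩ := T.surj ha₀ ha₀1 hv₁
      have h1 : ⁅a₀ * (y * a₀ * y⁻¹), z⁆ = 1 :=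
        commutatorElement_eq_one_iff_mul_comm.2 (mem_centralizer_iff.1 hq z hz).symm
      rw [h.comm_mul_left haP haP' (T.memX hz), hconj z hz, ez] at h1
      exact hv₀1 h1
    have hle : S.subgroupOf H ⊔ zpowers (⟨y, hyH⟩ : H) ≤ (R : Subgroup H) :=
      sup_le hR (zpowers_le.2 hyR)
    have h2 : IsPGroup 2 ↥(S ⊔ zpowers y) := by
      have := (R.2.to_le hle).map H.subtype
      rwa [Subgroup.map_sup, map_subgroupOf_eq_of_le hSH, MonoidHom.map_zpowers] at this
    exact hynotS (hmax ⟨hCS.trans le_sup_left, sup_le hSK (zpowers_le.2 ⟨hcent, hyH⟩), h2⟩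
      le_sup_left (mem_sup_right (mem_zpowers y)))
  -- the conjugate `X' = y V y⁻¹`
  set X' := cj y V with hX'
  have hX'c : Conj V X' := ⟨y, rfl⟩
  have hX'ne : X' ≠ V := fun e => hyNV (mem_normalizer_of_cj e)
  have hX'S : ∀ z ∈ X', ∀ s ∈ S, s * z = z * s := by
    intro z hz s hs
    have h1 := mem_centralizer_iff.1 (hSK (hyS'' s hs)).1 _ (mem_cj.1 hz)
    calc s * z = y * (y⁻¹ * s * y * (y⁻¹ * z * y)) * y⁻¹ := by group
      _ = y * (y⁻¹ * z * y * (y⁻¹ * s * y)) * y⁻¹ := by rw [h1]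
      _ = z * s := by group
  have hX'V : ∀ z ∈ X', ∀ v ∈ V, v * z = z * v := fun z hz v hv => hX'S z hz v (hVS hv)
  have hX'X : ∀ z ∈ X', ∀ x ∈ X, x * z = z * x := fun z hz x hx => by
    have h1 : y⁻¹ * x * y = x := by
      calc y⁻¹ * x * y = y⁻¹ * (y * x * y⁻¹) * y := by rw [hyfix x hx]
        _ = x := by group
    have := hXc hx (mem_cj.1 hz)
    calc x * z = y * (y⁻¹ * x * y * (y⁻¹ * z * y)) * y⁻¹ := by group
      _ = y * (y⁻¹ * z * y * (y⁻¹ * x * y)) * y⁻¹ := by rw [h1, this]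
      _ = z * x := by group
  have hX'N : ∀ z ∈ X', z ∈ normalizer (V : Set G) := fun z hz =>
    centralizer_le_normalizer _ (mem_centralizer_iff.2 (hX'V z hz))
  have hX'cm : ∀ z ∈ X', ∀ p ∈ Pn V, ⁅z, p⁆ ∈ V := by
    intro z hz p hp
    obtain ⟨a, ha, hap⟩ := T.decomp hp
    have haP := T.memA ha
    have hapP : a * p ∈ C := ⟨mul_mem haP hp, hap⟩
    have hzc : ∀ c ∈ C, c * z = z * c := fun c hc => hX'S z hz c (hCS hc)
    have hazP : z * a * z⁻¹ ∈ Pn V := Pn_conj (hX'N z hz) haP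
    have hd : a * (z * a * z⁻¹) ∈ Pn V := mul_mem haP hazP
    have hfixV : ∀ v ∈ V, z * v * z⁻¹ = v := fun v hv => by
      rw [← hX'V z hz v hv, mul_inv_cancel_right]
    obtain ⟨v, hv, x, hx, hdv⟩ := T.double_centralizer hd fun c hc hc' => by
      have h1 : ⁅z * a * z⁻¹, c⁆ = ⁅a, c⁆ := by
        have e : z⁻¹ * c * z = c := by rw [mul_assoc, hzc c ⟨hc, hc'⟩]; group
        have : ⁅z * a * z⁻¹, c⁆ = z * ⁅a, z⁻¹ * c * z⁆ * z⁻¹ := by
          simp [commutatorElement_def, mul_assoc]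
        rw [this, e, hfixV _ (h.comm_mem haP hc)]
      rw [h.comm_mul_left haP hazP hc, h1, h.sq (h.comm_mem haP hc)]
    have haa : a * a = 1 := (h.conj T.pairA.1).sq ha
    have hzaz : z * a * z⁻¹ = a * (v * x) := by
      rw [← hdv, ← mul_assoc, haa, one_mul]
    have hvx : v * x * (v * x) = 1 := by
      calc v * x * (v * x) = v * (x * v) * x := by group
        _ = v * (v * x) * x := by rw [hXc hx hv]
        _ = v * v * (x * x) := by group
        _ = 1 := by rw [h.sq hv, (h.conj T.pairX.1).sq hx, one_mul]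
    have hinv : a * (v * x) * (a * (v * x)) = 1 := by
      rw [← hzaz]
      calc z * a * z⁻¹ * (z * a * z⁻¹) = z * (a * a) * z⁻¹ := by group
        _ = 1 := by rw [haa]; group
    have hcom : ⁅a, v * x⁆ = 1 := by
      rw [commutatorElement_def, inv_eq_of_mul_eq_one_right haa, inv_eq_of_mul_eq_one_right hvx]
      simpa [mul_assoc] using hinv
    have hza : ⁅z, a⁆ ∈ V := by
      rcases eq_or_ne a 1 with rfl | ha1
      · simp [commutatorElement_def, one_mem]
      have hav : ⁅a, v⁆ = 1 :=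
        commutatorElement_eq_one_iff_mul_comm.2 (Pn_comm haP hv).symm
      rw [h.comm_mul_right haP (h.le_Pn hv) (T.memX hx), hav, one_mul] at hcom
      have hx1 : x = 1 := by_contra fun hx1 => T.nc a ha ha1 x hx hx1 hcom
      have : ⁅z, a⁆ = z * a * z⁻¹ * a⁻¹ := commutatorElement_def _ _
      rw [this, hzaz, hx1, mul_one, h.conj_comm haP hv]
      exact hv
    have hp' : p = a * (a * p) := by rw [← mul_assoc, haa, one_mul]
    rw [hp', show ⁅z, a * (a * p)⁆ = ⁅z, a⁆ * (a * ⁅z, a * p⁆ * a⁻¹) by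
      simp [commutatorElement_def, mul_assoc],
      commutatorElement_eq_one_iff_mul_comm.2 (hzc _ hapP).symm]
    simpa using hza
  -- the chain stabiliser is a `2`-group
  let N₀ : Subgroup G :=
    { carrier := {m | m ∈ centralizer (V : Set G) ∧ ∀ p ∈ Pn V, ⁅m, p⁆ ∈ V}
      one_mem' := ⟨one_mem _, fun p _ => by rw [commutatorElement_one_left]; exact one_mem V⟩
      mul_mem' := by
        rintro m n ⟨hm, hm'⟩ ⟨hn, hn'⟩
        refine ⟨mul_mem hm hn, fun p hp => ?_⟩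
        rw [show ⁅m * n, p⁆ = m * ⁅n, p⁆ * m⁻¹ * ⁅m, p⁆ by simp [commutatorElement_def, mul_assoc],
          ← mem_centralizer_iff.1 hm _ (hn' p hp), mul_inv_cancel_right]
        exact mul_mem (hn' p hp) (hm' p hp)
      inv_mem' := by
        rintro m ⟨hm, hm'⟩
        refine ⟨inv_mem hm, fun p hp => ?_⟩
        rw [show ⁅m⁻¹, p⁆ = m⁻¹ * ⁅m, p⁆⁻¹ * m⁻¹⁻¹ by simp [commutatorElement_def, mul_assoc],
          ← mem_centralizer_iff.1 (inv_mem hm) _ (inv_mem (hm' p hp)), mul_inv_cancel_right]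
        exact inv_mem (hm' p hp) }
  have hN₀N : N₀ ≤ normalizer (V : Set G) := fun m hm => centralizer_le_normalizer _ hm.1
  have hN₀n : normalizer (V : Set G) ≤ normalizer (N₀ : Set G) := fun m hm => by
    refine mem_normalizer_of_cj (Subgroup.eq_of_le_of_card_ge ?_ (card_cj m N₀).ge)
    intro n hn
    obtain ⟨hn1, hn2⟩ := mem_cj.1 hn
    refine ⟨mem_centralizer_iff.2 fun v hv => ?_, fun p hp => ?_⟩
    · have h1 : m⁻¹ * v * m ∈ V := by
        simpa using (mem_normalizer_iff.1 (inv_mem hm) v).1 hv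
      have := mem_centralizer_iff.1 hn1 _ h1
      calc v * n = m * (m⁻¹ * v * m * (m⁻¹ * n * m)) * m⁻¹ := by group
        _ = m * (m⁻¹ * n * m * (m⁻¹ * v * m)) * m⁻¹ := by rw [this]
        _ = n * v := by group
    · have h1 : m⁻¹ * p * m ∈ Pn V := by simpa using Pn_conj (inv_mem hm) hp
      have := (mem_normalizer_iff.1 hm _).1 (hn2 _ h1)
      rwa [show m * ⁅m⁻¹ * n * m, m⁻¹ * p * m⁆ * m⁻¹ = ⁅n, p⁆ by
        simp [commutatorElement_def, mul_assoc]] at this
  have hN₀2 : IsPGroup 2 N₀ := by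
    have hodd : ∀ m ∈ N₀, Odd (orderOf m) → m = 1 := by
      intro m hm ho
      have hfixp : ∀ p ∈ Pn V, m * p = p * m := by
        intro p hp
        set w := ⁅m, p⁆ with hw
        have hwV : w ∈ V := hm.2 p hp
        have hmw : m * w = w * m := (mem_centralizer_iff.1 hm.1 w hwV).symm
        have hk : ∀ k : ℕ, m ^ k * p = w ^ k * p * m ^ k := by
          intro k
          induction k with
          | zero => simp
          | succ k ih =>
            have hmwk : m * w ^ k = w ^ k * m := (Commute.pow_right hmw k)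
            have hmp : m * p = w * p * m := by rw [hw, commutatorElement_def]; group
            rw [pow_succ' m, mul_assoc, ih, ← mul_assoc, ← mul_assoc, hmwk, mul_assoc (w ^ k) m,
              hmp, pow_succ w]
            group
        have h1 := hk (orderOf m)
        rw [pow_orderOf_eq_one, one_mul, mul_one] at h1
        have hw1 : w ^ orderOf m = 1 := right_eq_mul.1 (by rw [← h1])
        obtain ⟨k, hk'⟩ := ho
        rw [hk', pow_succ, pow_mul, pow_two, h.sq hwV, one_pow, one_mul] at hw1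
        exact commutatorElement_eq_one_iff_mul_comm.1 hw1
      refine Classical.byContradiction fun hm1 => ?_
      have hmQ : m ∈ Qn V := by
        refine h.cent m (hN₀N hm) fun q hq => ?_
        have hqN := Qn_le_normalizer hq
        set z := q⁻¹ * (m * q * m⁻¹) with hz
        have hzQ : z ∈ Qn V := mul_mem (inv_mem hq) (Qn_conj (hN₀N hm) hq)
        have hzP : ∀ p ∈ Pn V, p * z = z * p := by
          intro p hp
          have hqp : q * p * q⁻¹ ∈ Pn V := Pn_conj hqN hp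
          have h1 := hfixp _ hqp
          have h2 := hfixp p hp
          calc p * z = q⁻¹ * (q * p * q⁻¹ * m) * q * m⁻¹ := by rw [hz]; group
            _ = q⁻¹ * (m * (q * p * q⁻¹)) * q * m⁻¹ := by rw [h1]
            _ = q⁻¹ * (m * q) * (p * m⁻¹) := by group
            _ = q⁻¹ * (m * q) * (m⁻¹ * (m * p) * m⁻¹) := by group
            _ = q⁻¹ * (m * q) * (m⁻¹ * (p * m) * m⁻¹) := by rw [h2]
            _ = z * p := by rw [hz]; group
        have hzPn : z ∈ Pn V := ⟨hzQ, mem_centralizer_iff.2 fun v hv => hzP v (h.le_Pn hv)⟩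
        have hzV : z ∈ V := h.center_Pn hzPn fun p hp => (hzP p hp).symm
        have hmz : m * z = z * m := (mem_centralizer_iff.1 hm.1 z hzV).symm
        have hk : ∀ k : ℕ, m ^ k * q * (m ^ k)⁻¹ = q * z ^ k := by
          intro k
          induction k with
          | zero => simp
          | succ k ih =>
            have hmzk : m * z ^ k = z ^ k * m := (Commute.pow_right hmz k)
            calc m ^ (k + 1) * q * (m ^ (k + 1))⁻¹ = m * (m ^ k * q * (m ^ k)⁻¹) * m⁻¹ := by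
                  rw [pow_succ']; group
              _ = m * q * (z ^ k * m⁻¹) := by rw [ih]; group
              _ = m * q * (m⁻¹ * (m * z ^ k) * m⁻¹) := by group
              _ = m * q * m⁻¹ * z ^ k := by rw [hmzk]; group
              _ = q * z * z ^ k := by rw [hz]; group
              _ = q * z ^ (k + 1) := by rw [pow_succ']; group
        have h1 := hk (orderOf m)
        rw [pow_orderOf_eq_one] at h1
        have hz1 : z ^ orderOf m = 1 := by simpa using h1.symm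
        obtain ⟨k, hk'⟩ := ho
        rw [hk', pow_succ, pow_mul, pow_two, h.sq hzV, one_pow, one_mul] at hz1
        calc m * q = q * z * m := by rw [hz]; group
          _ = q * m := by rw [hz1, mul_one]
      obtain ⟨k, hk⟩ := IsPGroup.iff_orderOf.1 isPGroup_Qn ⟨m, hmQ⟩
      rw [Subgroup.orderOf_mk] at hk
      rw [hk] at ho
      rcases Nat.eq_zero_or_pos k with rfl | hkpos
      · exact hm1 (orderOf_eq_one_iff.1 (by rw [hk, pow_zero]))
      · exact Nat.not_even_iff_odd.2 ho (Nat.even_pow.2 ⟨even_two, hkpos.ne'⟩)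
    refine IsPGroup.of_card (n := (Nat.card N₀).primeFactorsList.length) ?_
    refine Nat.eq_prime_pow_of_unique_prime_dvd Nat.card_pos.ne' fun {d} hd hdd => ?_
    by_contra hne
    haveI := Fact.mk hd
    obtain ⟨m, hm⟩ := exists_prime_orderOf_dvd_card' (G := N₀) d hdd
    rw [← Subgroup.orderOf_coe] at hm
    have := hodd m m.2 (by rw [hm]; exact hd.odd_of_ne_two hne)
    rw [this, orderOf_one] at hm
    exact hd.one_lt.ne hm
  have hX'Q : X' ≤ Qn V := fun z hz =>
    Cfsg.Agent.LocalEvenA.le_pCoreOf hN₀N hN₀n hN₀2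
      ⟨mem_centralizer_iff.2 (hX'V z hz), hX'cm z hz⟩
  have hpairX' : Pair V X' := ⟨hX'c, hX'ne, hX'Q⟩
  have hXX' : X' ≠ X := by
    intro e
    apply T.pairX.2.1
    calc X = cj y⁻¹ X := by
          conv_lhs => rw [← cj_inv_cj y X]
          congr 1
          exact cj_of_mem_normalizer (centralizer_le_normalizer _ hyH)
      _ = cj y⁻¹ X' := by rw [e]
      _ = V := cj_inv_cj y V
  obtain ⟨x₀, hx₀, hx₀1⟩ := T.nontrivial
  obtain ⟨z, hz, hz1⟩ : ∃ z ∈ X', z ≠ 1 := by
    obtain ⟨a, ha, e⟩ := T.surjA hx₀ hx₀1 (one_mem V)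
    by_contra hh
    push Not at hh
    have hbot : X' = ⊥ := eq_bot_iff.2 fun z hz => mem_bot.2 (hh z hz)
    have hc := hX'c.card
    rw [hbot, Subgroup.card_bot, ← T.pairX.1.card] at hc
    exact hx₀1 (by
      have := Subgroup.card_eq_one.1 hc.symm
      rw [this] at hx₀
      exact mem_bot.1 hx₀)
  have hzP := h.pair_le_Pn hpairX' hz
  obtain ⟨v, hv, x, hx, hzvx⟩ := T.double_centralizer hzP fun c hc hc' =>
    commutatorElement_eq_one_iff_mul_comm.2 (hX'S z hz c (hCS ⟨hc, hc'⟩)).symm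
  have hx1 : x ≠ 1 := fun e => hz1 (h.eq_one_of_mem hX'c (Conj.refl V) hX'ne hz
    (by rw [hzvx, e, mul_one]; exact hv))
  obtain ⟨a, ha, hav⟩ := T.surjA hx hx1 hv
  have hXa : cj a X = X' := h.eq_of_inf (T.pairX.1.cj_right a) hX'c hz1
    (by rw [hzvx, ← hav, ← T.conj_eq ha hx]; exact conj_mem_cj hx) hz
  have hback : cj y X' = V := by
    rw [hX', cj_cj]
    exact cj_of_mem_normalizer (centralizer_le_normalizer _ (hSK hy2S).1)
  have h1 : V ≤ Qn X' := by
    have := cj_mono y hX'Q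
    rwa [hback, cj_Qn] at this
  have h2 := cj_mono a⁻¹ h1
  rwa [cj_Qn, ← hXa, cj_inv_cj, cj_of_mem_normalizer (Pn_le_normalizer (inv_mem (T.memA ha)))] at h2

end Triple

end Cfsg.Agent.TILarge23
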